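import Mathlib

/-!
# Finite facts on the group of order two times the alternating group of degree five
-/

set_option autoImplicit false

namespace CfsgLib.JankoOne

open Equiv

/-- The centraliser type. -/
abbrev Cmod : Type := Multiplicative (ZMod 2) × alternatingGroup (Fin 5)

/-- The central involution. -/
def tM : Cmod := (Multiplicative.ofAdd 1, 1)

/-- An involution in the alternating factor. -/
def vM : Cmod := (1, ⟨swap 0 1 * swap 2 3, by rw [Perm.mem_alternatingGroup]; decide⟩)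

/-- An element of order three cycling a four-group. -/
def zM : Cmod := (1, ⟨swap 1 2 * swap 2 3, by rw [Perm.mem_alternatingGroup]; decide⟩)

/-- An element of order three inverted by `vM`. -/
def xM : Cmod := (1, ⟨swap 0 4 * swap 4 1, by rw [Perm.mem_alternatingGroup]; decide⟩)

/-- An element of order five inverted by `vM`. -/
def yM : Cmod := (1, ⟨swap 0 2 * swap 2 3 * swap 3 1 * swap 1 4, by rw [Perm.mem_alternatingGroup]; decide⟩)

theorem tM_facts : tM ≠ 1 ∧ tM * tM = 1 ∧ vM ≠ 1 ∧ vM ≠ tM ∧ vM * vM = 1 ∧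
    Commute zM tM ∧ zM ^ 3 = 1 := by
  unfold Commute SemiconjBy
  decide +kernel

theorem center_eq_tM : ∀ k : Cmod, k * zM = zM * k → k * yM = yM * k → k = 1 ∨ k = tM := by
  decide +kernel

theorem commute_tM : ∀ k : Cmod, k * tM = tM * k := by
  decide +kernel

/-- The four-group cycled by `zM`. -/
theorem zM_cycle : zM * vM * zM⁻¹ ≠ vM ∧ Commute vM (zM * vM * zM⁻¹) ∧
    zM * (zM * vM * zM⁻¹) * zM⁻¹ = vM * (zM * vM * zM⁻¹) := by
  unfold Commute SemiconjBy
  decide +kernel

theorem card_centralizer_vM : Fintype.card {k : Cmod // k * vM = vM * k} = 8 := by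
  decide +kernel

theorem sq_of_commute_vM : ∀ k : Cmod, k * vM = vM * k → k * k = 1 := by
  decide +kernel

theorem commute_of_commute_vM : ∀ k : Cmod, k * vM = vM * k → ∀ l : Cmod, l * vM = vM * l →
    k * l = l * k := by
  decide +kernel

/-- The Sylow two-subgroup containing `tM` and `vM` is generated by these and one more. -/
theorem eq_of_commute_vM_cycle : ∀ k : Cmod, k * vM = vM * k →
    k * (zM * vM * zM⁻¹) = (zM * vM * zM⁻¹) * k := by
  decide +kernel

theorem pow_fifteen : ∀ k : Cmod, k ^ 15 = 1 → k ^ 3 = 1 ∨ k ^ 5 = 1 := by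
  decide +kernel

theorem xM_facts : xM ≠ 1 ∧ xM ^ 3 = 1 ∧ vM * xM * vM = xM⁻¹ ∧ yM ≠ 1 ∧ yM ^ 5 = 1 ∧
    vM * yM * vM = yM⁻¹ := by
  decide +kernel

set_option synthInstance.maxSize 1024 in
set_option synthInstance.maxHeartbeats 200000 in
/-- The elements of order three inverted by `vM` are conjugate under the centraliser of `vM`. -/
theorem inverted_conj : ∀ p : Cmod, p ^ 3 = 1 → p ≠ 1 → vM * p * vM = p⁻¹ →
    ∀ q : Cmod, q ^ 3 = 1 → q ≠ 1 → vM * q * vM = q⁻¹ →
      ∃ w : Cmod, w * vM = vM * w ∧ w * p * w⁻¹ = q := by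
  decide +kernel

theorem card_centralizer_xM : Fintype.card {k : Cmod // k * (tM * xM) = tM * xM * k} = 6 := by
  decide +kernel

theorem card_centralizer_yM : Fintype.card {k : Cmod // k * (tM * yM) = tM * yM * k} = 10 := by
  decide +kernel

theorem card_centralizer_yM2 :
    Fintype.card {k : Cmod // k * (tM * yM ^ 2) = tM * yM ^ 2 * k} = 10 := by
  decide +kernel

theorem not_conj_yM : ∀ k : Cmod, k * (tM * yM) * k⁻¹ ≠ tM * yM ^ 2 := by
  decide +kernel

theorem card_struct_tM :
    Fintype.card {u : Cmod // u * u = 1 ∧ u ≠ 1 ∧ u * tM * (u * tM) = 1 ∧ u * tM ≠ 1} = 30 := by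
  decide +kernel

theorem card_struct_xM : Fintype.card {u : Cmod //
    u * u = 1 ∧ u ≠ 1 ∧ u * (tM * xM) * (u * (tM * xM)) = 1 ∧ u * (tM * xM) ≠ 1} = 6 := by
  decide +kernel

theorem card_struct_yM : Fintype.card {u : Cmod //
    u * u = 1 ∧ u ≠ 1 ∧ u * (tM * yM) * (u * (tM * yM)) = 1 ∧ u * (tM * yM) ≠ 1} = 10 := by
  decide +kernel

theorem card_struct_yM2 : Fintype.card {u : Cmod //
    u * u = 1 ∧ u ≠ 1 ∧ u * (tM * yM ^ 2) * (u * (tM * yM ^ 2)) = 1 ∧
      u * (tM * yM ^ 2) ≠ 1} = 10 := by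
  decide +kernel

theorem card_Cmod : Nat.card Cmod = 120 := by
  rw [Nat.card_eq_fintype_card]
  decide +kernel

end CfsgLib.JankoOne

namespace CfsgLib.JankoOne

/-- The seven involutions of the centraliser of `vM`. -/
def seven : Finset Cmod := Finset.univ.filter fun k => k * vM = vM * k ∧ k ≠ 1

set_option synthInstance.maxSize 1024 in
set_option synthInstance.maxHeartbeats 200000 in
theorem seven_orbit : ∀ s ∈ seven.powerset, tM ∈ s → (∀ k ∈ s, zM * k * zM⁻¹ ∈ s) →
    s.card % 2 = 1 → s ≠ {tM} → s = seven := by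
  decide +kernel

theorem involution_conj_seven : ∀ k : Cmod, k * k = 1 → k ≠ 1 →
    ∃ c : Cmod, c * k * c⁻¹ * vM = vM * (c * k * c⁻¹) := by
  decide +kernel

theorem zM_conj_commute_vM : ∀ k : Cmod, k * vM = vM * k →
    zM * k * zM⁻¹ * vM = vM * (zM * k * zM⁻¹) := by
  decide +kernel

theorem pow_four : ∀ k : Cmod, k ^ 4 = 1 → k * k = 1 := by
  decide +kernel

end CfsgLib.JankoOne
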