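import Cfsg.Agent.Lib.JankoOne.Model

/-!
# More finite facts on the centraliser type
-/

set_option autoImplicit false

namespace CfsgLib.JankoOne

set_option synthInstance.maxSize 1024 in
set_option synthInstance.maxHeartbeats 200000 in
/-- The same conjugacy for every non-central involution. -/
theorem inverted_conj_all : ∀ k : Cmod, k * k = 1 → k ≠ 1 → k ≠ tM →
    ∀ p : Cmod, p ^ 3 = 1 → p ≠ 1 → k * p * k⁻¹ = p⁻¹ →
    ∀ q : Cmod, q ^ 3 = 1 → q ≠ 1 → k * q * k⁻¹ = q⁻¹ →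
      ∃ w : Cmod, w * k = k * w ∧ w * p * w⁻¹ = q := by
  decide +kernel

set_option synthInstance.maxSize 1024 in
set_option synthInstance.maxHeartbeats 200000 in
theorem exists_inverted : ∀ k : Cmod, k * k = 1 → k ≠ 1 → k ≠ tM →
    ∃ p : Cmod, p ^ 3 = 1 ∧ p ≠ 1 ∧ k * p * k⁻¹ = p⁻¹ := by
  decide +kernel

theorem sq_of_commute_involution : ∀ k : Cmod, k * k = 1 → k ≠ 1 → k ≠ tM →
    ∀ l : Cmod, l * k = k * l → l * l = 1 := by
  decide +kernel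

set_option synthInstance.maxSize 1024 in
set_option synthInstance.maxHeartbeats 200000 in
theorem commute_three : ∀ k : Cmod, k ^ 3 = 1 → k ≠ 1 → ∀ l : Cmod, l * k = k * l →
    (l * l = 1 → l = 1 ∨ l = tM) ∧ l ^ 6 = 1 ∧ (l ^ 3 = 1 → l = 1 ∨ l = k ∨ l = k * k) := by
  decide +kernel

set_option synthInstance.maxSize 1024 in
set_option synthInstance.maxHeartbeats 200000 in
theorem not_fifteen : ∀ q : Cmod, q ^ 5 = 1 → q ≠ 1 → ∀ p : Cmod, p ^ 3 = 1 → p ≠ 1 →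
    p * q ≠ q * p ∧ p * q ≠ q ^ 2 * p ∧ p * q ≠ q ^ 3 * p ∧ p * q ≠ q ^ 4 * p := by
  decide +kernel

end CfsgLib.JankoOne

namespace CfsgLib.JankoOne

theorem xM_conj : (tM * xM) ^ 3 = tM ∧ vM * (tM * xM) * vM⁻¹ = (tM * xM)⁻¹ ∧
    (tM * xM) ^ 2 ≠ 1 ∧ (tM * xM) ^ 6 = 1 := by
  decide +kernel

theorem yM_conj : (tM * yM) ^ 5 = tM ∧ vM * (tM * yM) * vM⁻¹ = (tM * yM)⁻¹ ∧
    (tM * yM) ^ 2 ≠ 1 ∧ (tM * yM) ^ 6 ≠ 1 ∧ (tM * yM) ^ 10 = 1 := by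
  decide +kernel

theorem yM2_conj : (tM * yM ^ 2) ^ 5 = tM ∧ vM * (tM * yM ^ 2) * vM⁻¹ = (tM * yM ^ 2)⁻¹ ∧
    (tM * yM ^ 2) ^ 2 ≠ 1 ∧ (tM * yM ^ 2) ^ 6 ≠ 1 ∧ (tM * yM ^ 2) ^ 10 = 1 ∧
    vM * (tM * yM) ^ 3 * vM⁻¹ = tM * yM ^ 2 := by
  decide +kernel

end CfsgLib.JankoOne

namespace CfsgLib.JankoOne

set_option synthInstance.maxSize 1024 in
set_option synthInstance.maxHeartbeats 200000 in
theorem card_centralizer_involution : ∀ k : Cmod, k * k = 1 → k ≠ 1 → k ≠ tM →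
    Fintype.card {l : Cmod // l * k = k * l} = 8 := by
  decide +kernel

end CfsgLib.JankoOne
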