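import Mathlib
import Cfsg.Agent.Lib.JankoOne.Model
import Cfsg.Agent.Lib.Invol.ZStarFinal
import Cfsg.Agent.Lib.Cores.Basic
import Cfsg.Prelude.Def_SporadicB

/-!
# Simple groups with an involution centraliser of type `2 × A₅`: fusion of involutions
-/

set_option autoImplicit false

open Cfsg Subgroup

namespace CfsgLib.JankoOne

/-- The normalised data: one class of involutions, and a four-group `{1, t, v, t * v}` whose
involutions are permuted cyclically by `z`. -/
structure Data (G : Type*) [Group G] where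
  /-- the involution -/
  t : G
  /-- the cycling element -/
  z : G
  /-- the structure of the centraliser -/
  e : Subgroup.centralizer ({t} : Set G) ≃* Cmod
  mul_self : t * t = 1
  ne_one : t ≠ 1
  fusion : ∀ w : G, w * w = 1 → w ≠ 1 → IsConj t w
  no_four : ∀ w : G, w ^ 4 = 1 → w * w = 1
  not_sixteen : ¬16 ∣ Nat.card G
  conj_ne : z * t * z⁻¹ ≠ t
  conj_comm : Commute t (z * t * z⁻¹)
  conj_conj : z * (z * t * z⁻¹) * z⁻¹ = t * (z * t * z⁻¹)

/-- The embedding of the model into the ambient group. -/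
def embed {G : Type*} [Group G] {t : G} (e : Subgroup.centralizer ({t} : Set G) ≃* Cmod) :
    Cmod →* G :=
  (Subgroup.centralizer ({t} : Set G)).subtype.comp e.symm.toMonoidHom

theorem embed_injective {G : Type*} [Group G] {t : G}
    (e : Subgroup.centralizer ({t} : Set G) ≃* Cmod) : Function.Injective (embed e) :=
  fun _ _ h => e.symm.injective (Subtype.ext h)

theorem embed_mem {G : Type*} [Group G] {t : G}
    (e : Subgroup.centralizer ({t} : Set G) ≃* Cmod) (k : Cmod) :
    Commute (embed e k) t :=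
  mem_centralizer_singleton_iff.mp (e.symm k).2

theorem exists_embed_eq {G : Type*} [Group G] {t : G}
    (e : Subgroup.centralizer ({t} : Set G) ≃* Cmod) {g : G} (h : Commute g t) :
    ∃ k, embed e k = g :=
  ⟨e ⟨g, mem_centralizer_singleton_iff.mpr h.eq⟩, by simp [embed]⟩

theorem embed_tM {G : Type*} [Group G] {t : G}
    (e : Subgroup.centralizer ({t} : Set G) ≃* Cmod) (ht : t ≠ 1) : embed e tM = t := by
  obtain ⟨k, hk⟩ := exists_embed_eq e (Commute.refl t)
  have hc : ∀ l, k * l = l * k := fun l =>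
    embed_injective e (by rw [map_mul, map_mul, hk]; exact (embed_mem e l).symm.eq)
  rcases center_eq_tM k (hc _) (hc _) with h | h
  · exact absurd (by rw [← hk, h, map_one]) ht
  · rw [← h, hk]

theorem isConj_embed {G : Type*} [Group G] {t : G}
    (e : Subgroup.centralizer ({t} : Set G) ≃* Cmod) (c k : Cmod) :
    IsConj (embed e k) (embed e (c * k * c⁻¹)) :=
  isConj_iff.mpr ⟨embed e c, by rw [map_mul, map_mul, map_inv]⟩

/-- The data exist. -/
theorem exists_data {G : Type*} [Group G] [Finite G] [IsSimpleGroup G] (t : G)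
    (ht : Cfsg.IsTwoCentralInvolution t)
    (e : Subgroup.centralizer ({t} : Set G) ≃* Cmod) : Nonempty (Data G) := by
  classical
  obtain ⟨hord, P₀, -, hP₀c⟩ := ht
  haveI : Fact (Nat.Prime 2) := ⟨Nat.prime_two⟩
  have ht1 : t ≠ 1 := fun h => by rw [h, orderOf_one] at hord; omega
  have ht2 : t * t = 1 := by rw [← sq, ← hord]; exact pow_orderOf_eq_one t
  have hCcard : Nat.card (Subgroup.centralizer ({t} : Set G)) = 120 := by
    rw [Nat.card_congr e.toEquiv, card_Cmod]
  -- the order of a Sylow subgroup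
  have hP0C : (P₀ : Subgroup G) ≤ Subgroup.centralizer ({t} : Set G) := fun x hx =>
    mem_centralizer_singleton_iff.mpr (hP₀c x hx)
  have hG120 : 120 ∣ Nat.card G := hCcard ▸ card_subgroup_dvd_card _
  have hP0card : Nat.card (P₀ : Subgroup G) = 8 := by
    have h1 : Nat.card (P₀ : Subgroup G) ∣ 120 := hCcard ▸ card_dvd_of_le hP0C
    obtain ⟨n, hn⟩ := P₀.2.exists_card_eq
    have h8 : 2 ^ 3 ∣ Nat.card (P₀ : Subgroup G) :=
      P₀.pow_dvd_card_of_pow_dvd_card ((by norm_num : (2 : ℕ) ^ 3 ∣ 120).trans hG120)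
    rw [hn] at h1 h8 ⊢
    have hge : 3 ≤ n := (Nat.pow_dvd_pow_iff_le_right (by norm_num)).mp h8
    have hle : n ≤ 3 := by
      by_contra hlt
      have : 2 ^ 4 ∣ 120 := (Nat.pow_dvd_pow 2 (by omega : 4 ≤ n)).trans h1
      norm_num at this
    rw [le_antisymm hle hge]
    norm_num
  have h16 : ¬16 ∣ Nat.card G := fun h => by
    have := P₀.pow_dvd_card_of_pow_dvd_card (n := 4) (by norm_num; exact h)
    rw [hP0card] at this
    norm_num at this
  -- the Sylow subgroup through `vM`
  set em := embed e with hem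
  have hemt : em tM = t := embed_tM e ht1
  let S : Subgroup G := (Subgroup.centralizer ({vM} : Set Cmod)).map em
  have hmemS : ∀ k, em k ∈ S ↔ k * vM = vM * k := fun k => by
    constructor
    · rintro ⟨l, hl, hle⟩
      exact embed_injective e hle ▸ mem_centralizer_singleton_iff.mp hl
    · exact fun h => ⟨k, mem_centralizer_singleton_iff.mpr h, rfl⟩
  have hScard : Nat.card S = 8 := by
    rw [card_map_of_injective (embed_injective e), ← card_centralizer_vM,
      ← Nat.card_eq_fintype_card]
    exact Nat.card_congr (Equiv.subtypeEquivRight fun k => mem_centralizer_singleton_iff)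
  let P : Sylow 2 G := Sylow.ofCard S (by rw [hScard, ← hP0card, P₀.card_eq_multiplicity])
  have hPS : (P : Subgroup G) = S := Sylow.coe_ofCard _ _
  haveI hPc : IsMulCommutative P := ⟨⟨fun a b => by
    obtain ⟨k, hk, hka⟩ := (hPS ▸ a.2 : (a : G) ∈ S)
    obtain ⟨l, hl, hlb⟩ := (hPS ▸ b.2 : (b : G) ∈ S)
    apply Subtype.ext
    show (a : G) * b = b * a
    rw [← hka, ← hlb, ← map_mul, ← map_mul, commute_of_commute_vM k
      (mem_centralizer_singleton_iff.mp hk) l (mem_centralizer_singleton_iff.mp hl)]⟩⟩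
  have htP : t ∈ (P : Subgroup G) := by
    rw [hPS, ← hemt, hmemS]
    exact (commute_tM vM).symm
  -- the orbit under the normaliser
  set N := Subgroup.normalizer ((P : Subgroup G) : Set G) with hN
  let s : Finset Cmod := seven.filter fun k => ∃ n ∈ N, n * t * n⁻¹ = em k
  have horb : ∀ n ∈ N, ∃ k ∈ s, n * t * n⁻¹ = em k := by
    intro n hn
    have h := (mem_normalizer_iff.mp hn t).mp htP
    rw [hPS] at h
    obtain ⟨k, hk, hke⟩ := h
    refine ⟨k, Finset.mem_filter.mpr ⟨?_, n, hn, hke.symm⟩, hke.symm⟩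
    refine Finset.mem_filter.mpr
      ⟨Finset.mem_univ _, mem_centralizer_singleton_iff.mp hk, ?_⟩
    rintro rfl
    apply ht1
    rw [map_one] at hke
    exact conj_eq_one_iff.mp hke.symm
  have hts : tM ∈ s :=
    Finset.mem_filter.mpr ⟨Finset.mem_filter.mpr ⟨Finset.mem_univ _, (commute_tM vM).symm,
      tM_facts.1⟩, 1, one_mem _, by simp [hemt]⟩
  have hzN : em zM ∈ N := by
    rw [hN, mem_normalizer_iff]
    have hfwd : ∀ x ∈ S, em zM * x * (em zM)⁻¹ ∈ S := by
      rintro _ ⟨k, hk, rfl⟩
      rw [← map_mul, ← map_inv, ← map_mul, hmemS]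
      exact zM_conj_commute_vM k (mem_centralizer_singleton_iff.mp hk)
    intro x
    rw [hPS]
    refine ⟨hfwd x, fun h => ?_⟩
    have h3 : em zM ^ 3 = 1 := by rw [← map_pow, tM_facts.2.2.2.2.2.2, map_one]
    have key := hfwd _ (hfwd _ h)
    have e1 : em zM * (em zM * (em zM * x * (em zM)⁻¹) * (em zM)⁻¹) * (em zM)⁻¹ =
        em zM ^ 3 * x * (em zM ^ 3)⁻¹ := by simp [pow_succ, mul_assoc]
    rw [e1, h3] at key
    simpa using key
  have hsz : ∀ k ∈ s, zM * k * zM⁻¹ ∈ s := by
    intro k hk
    obtain ⟨hk7, n, hn, hne⟩ := Finset.mem_filter.mp hk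
    obtain ⟨-, hkc, hk1⟩ := Finset.mem_filter.mp hk7
    refine Finset.mem_filter.mpr ⟨Finset.mem_filter.mpr ⟨Finset.mem_univ _,
      zM_conj_commute_vM k hkc, fun h => hk1 (conj_eq_one_iff.mp h)⟩, em zM * n,
      mul_mem hzN hn, ?_⟩
    rw [map_mul, map_mul, map_inv, ← hne]
    group
  have hodd : s.card % 2 = 1 := by
    letI : MulAction N G :=
      MulAction.compHom G ((ConjAct.toConjAct : G ≃* ConjAct G).toMonoidHom.comp N.subtype)
    have hsmul : ∀ (n : N) (x : G), n • x = (n : G) * x * (n : G)⁻¹ := fun n x => rfl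
    have hor : (MulAction.orbit N t) = em '' (s : Set Cmod) := by
      ext x
      constructor
      · rintro ⟨n, rfl⟩
        obtain ⟨k, hk, hke⟩ := horb n n.2
        exact ⟨k, hk, by rw [← hke]; exact (hsmul n t).symm⟩
      · rintro ⟨k, hk, rfl⟩
        obtain ⟨-, n, hn, hne⟩ := Finset.mem_filter.mp hk
        exact ⟨⟨n, hn⟩, by rw [← hne]; exact hsmul _ t⟩
    have hidx := MulAction.index_stabilizer N t
    rw [hor, Set.ncard_image_of_injective _ (embed_injective e), Set.ncard_coe_finset] at hidx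
    have hle : (P : Subgroup G).subgroupOf N ≤ MulAction.stabilizer N t := by
      intro n hn
      rw [MulAction.mem_stabilizer_iff, hsmul]
      have := congrArg Subtype.val (hPc.is_comm.comm (⟨n, hn⟩ : (P : Subgroup G)) ⟨t, htP⟩)
      simp only [Subgroup.coe_mul] at this
      rw [this, mul_inv_cancel_right]
    have hdvd : s.card ∣ (P : Subgroup G).index :=
      hidx ▸ (index_dvd_of_le hle).trans
        (relIndex_dvd_index_of_le le_normalizer)
    have hnd := P.not_dvd_index
    by_contra h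
    exact hnd ((Nat.dvd_of_mod_eq_zero (by omega)).trans hdvd)
  -- `t` is not isolated
  have hne : s ≠ {tM} := by
    intro hs
    have hiso : ¬Cfsg.IsIsolatedInvolution t := by
      intro hi
      have hO : Cfsg.oddCore G = ⊥ := by
        haveI : (Cfsg.oddCore G).Normal := by
          have := CfsgLib.Cores.pPrimeCore_characteristic (G := G) 2
          infer_instance
        rcases IsSimpleGroup.eq_bot_or_eq_top_of_normal (Cfsg.oddCore G) inferInstance with h | h
        · exact h
        · have ho := CfsgLib.Cores.odd_card_oddCore (G := G)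
          rw [h, card_top] at ho
          exact absurd ((by norm_num : (2 : ℕ) ∣ 120).trans hG120)
            (by rw [Nat.odd_iff] at ho; omega)
      have hc := CfsgLib.Invol.zstar_center hi hO
      rcases IsSimpleGroup.eq_bot_or_eq_top_of_normal (Subgroup.center G) inferInstance with h | h
      · exact ht1 (by rw [h] at hc; exact mem_bot.mp hc)
      · have hv : em vM * em zM = em zM * em vM := (mem_center_iff.mp (h ▸ mem_top _) _)
        refine zM_cycle.1 ?_
        rw [← map_mul, ← map_mul] at hv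
        rw [← embed_injective e hv, mul_inv_cancel_right]
    obtain ⟨g, hg, hgne⟩ : ∃ g : G, Commute t (g * t * g⁻¹) ∧ g * t * g⁻¹ ≠ t := by
      by_contra h
      push_neg at h
      exact hiso ⟨hord, h⟩
    obtain ⟨k, hk⟩ := exists_embed_eq e hg.symm
    have hk2 : k * k = 1 := embed_injective e (by
      rw [map_mul, map_one, hk, conj_mul, ht2, mul_one, mul_inv_cancel])
    have hk1 : k ≠ 1 := fun h => ht1 (by
      rw [h, map_one] at hk
      exact conj_eq_one_iff.mp hk.symm)
    obtain ⟨c, hc⟩ := involution_conj_seven k hk2 hk1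
    have hy : (em c * g) * t * (em c * g)⁻¹ ∈ (P : Subgroup G) := by
      rw [hPS, show em c * g * t * (em c * g)⁻¹ = em c * (g * t * g⁻¹) * (em c)⁻¹ by group, ← hk,
        ← map_mul, ← map_inv, ← map_mul, hmemS]
      exact hc
    obtain ⟨n, hn, hne⟩ := Sylow.conj_eq_normalizer_conj_of_mem P (_hP := hPc) t (em c * g)⁻¹
      htP (by rwa [inv_inv])
    rw [inv_inv] at hne
    obtain ⟨l, hl, hle⟩ := horb n⁻¹ (inv_mem hn)
    rw [inv_inv, ← hne] at hle
    rw [hs, Finset.mem_singleton] at hl
    rw [hl, hemt] at hle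
    refine hgne ?_
    have hcc : (em c)⁻¹ * t * em c = t := by
      rw [mul_assoc, ← (embed_mem e c).eq, inv_mul_cancel_left]
    calc g * t * g⁻¹ = (em c)⁻¹ * (em c * g * t * (em c * g)⁻¹) * em c := by group
      _ = t := by rw [hle, hcc]
  have hseven : s = seven :=
    seven_orbit s (Finset.mem_powerset.mpr (Finset.filter_subset _ _)) hts hsz hodd hne
  have hinto : ∀ w : G, IsPGroup 2 (zpowers w) → ∃ g k, k * vM = vM * k ∧ g * w * g⁻¹ = em k := by
    intro w hw
    obtain ⟨Q, hQ⟩ := hw.exists_le_sylow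
    obtain ⟨g, hg⟩ := MulAction.exists_smul_eq G Q P
    have h1 : g * w * g⁻¹ ∈ (P : Subgroup G) := by
      rw [← hg, Sylow.coe_subgroup_smul]
      exact ⟨w, hQ (mem_zpowers w), by simp⟩
    rw [hPS] at h1
    obtain ⟨k, hk, hke⟩ := h1
    exact ⟨g, k, mem_centralizer_singleton_iff.mp hk, hke.symm⟩
  have hfus : ∀ w : G, w * w = 1 → w ≠ 1 → IsConj t w := by
    intro w hw2 hw1
    obtain ⟨g, k, hk, hke⟩ := hinto w (IsPGroup.of_card (n := 1) (by
      rw [Nat.card_zpowers, orderOf_eq_prime (by rw [sq, hw2]) hw1, pow_one]))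
    have hks : k ∈ s := by
      rw [hseven]
      refine Finset.mem_filter.mpr ⟨Finset.mem_univ _, hk, ?_⟩
      rintro rfl
      rw [map_one] at hke
      exact hw1 (conj_eq_one_iff.mp hke)
    obtain ⟨-, n, -, hne⟩ := Finset.mem_filter.mp hks
    exact (isConj_iff.mpr ⟨n, hne⟩).trans (isConj_iff.mpr ⟨g, hke⟩).symm
  have hfour : ∀ w : G, w ^ 4 = 1 → w * w = 1 := by
    intro w hw
    have h4 : orderOf w ∣ 2 ^ 2 := orderOf_dvd_of_pow_eq_one (by norm_num; exact hw)
    obtain ⟨a, -, ha⟩ := (Nat.dvd_prime_pow Nat.prime_two).mp h4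
    obtain ⟨g, k, -, hke⟩ := hinto w (IsPGroup.of_card (n := a) (by rw [Nat.card_zpowers, ha]))
    have hk4 : k ^ 4 = 1 := embed_injective e (by
      rw [map_pow, map_one, ← hke, conj_pow, hw, mul_one, mul_inv_cancel])
    have := congrArg em (pow_four k hk4)
    rw [map_mul, map_one, ← hke, conj_mul] at this
    exact conj_eq_one_iff.mp this
  -- move `em vM` to `t`
  have hv2 : em vM * em vM = 1 := by rw [← map_mul, tM_facts.2.2.2.2.1, map_one]
  have hv1 : em vM ≠ 1 := fun h =>
    tM_facts.2.2.1 (embed_injective e (h.trans (map_one em).symm))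
  obtain ⟨g, hg⟩ := isConj_iff.mp (hfus (em vM) hv2 hv1).symm
  let φ : G ≃* G := MulAut.conj g
  have hφ : φ (em vM) = t := hg
  have hzt : φ (em zM) * t * (φ (em zM))⁻¹ = φ (em (zM * vM * zM⁻¹)) := by
    rw [← hφ]; simp only [map_mul, map_inv]
  refine ⟨{ t := t, z := φ (em zM), e := e, mul_self := ht2, ne_one := ht1, fusion := hfus,
            no_four := hfour, not_sixteen := h16, conj_ne := ?_, conj_comm := ?_,
            conj_conj := ?_ }⟩
  · rw [hzt, ← hφ]
    exact fun h => zM_cycle.1 (embed_injective e (φ.injective h))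
  · rw [hzt, ← hφ]
    exact (zM_cycle.2.1.map em).map φ
  · rw [hzt, ← hφ, ← map_inv φ, ← map_mul φ, ← map_mul φ, ← map_inv em, ← map_mul em,
      ← map_mul em, zM_cycle.2.2, map_mul em, map_mul φ]

end CfsgLib.JankoOne
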