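import Mathlib
import Cfsg.Agent.Lib.JankoOne.Setup
import Cfsg.Agent.Lib.JankoOne.Model2

/-!
# The three slots of a four-group
-/

set_option autoImplicit false

open Subgroup

namespace CfsgLib.JankoOne

/-- `p` has order three, commutes with `a`, and is inverted by `b`. -/
def Slot {G : Type*} [Group G] (a b p : G) : Prop :=
  p ^ 3 = 1 ∧ p ≠ 1 ∧ Commute p a ∧ b * p * b⁻¹ = p⁻¹

theorem Slot.conj {G : Type*} [Group G] {a b p : G} (h : Slot a b p) (g : G) :
    Slot (g * a * g⁻¹) (g * b * g⁻¹) (g * p * g⁻¹) := by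
  obtain ⟨h3, h1, hc, hi⟩ := h
  refine ⟨by rw [conj_pow, h3, mul_one, mul_inv_cancel], fun e => h1 (conj_eq_one_iff.mp e),
    hc.map (MulAut.conj g), ?_⟩
  have := congrArg (MulAut.conj g) hi
  simpa only [map_mul, map_inv, MulAut.conj_apply] using this

theorem Slot.inv {G : Type*} [Group G] {a b p : G} (h : Slot a b p) : Slot a b p⁻¹ := by
  obtain ⟨h3, h1, hc, hi⟩ := h
  refine ⟨by rw [inv_pow, h3, inv_one], inv_ne_one.mpr h1, hc.inv_left, ?_⟩
  have := congrArg Inv.inv hi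
  simpa [mul_assoc] using this

theorem Slot.not_commute {G : Type*} [Group G] {a b p : G} (h : Slot a b p) : ¬Commute p b := by
  intro hc
  have hi := h.2.2.2
  rw [hc.symm.eq, mul_inv_cancel_right] at hi
  refine h.2.1 ?_
  have h2 : p * p = 1 := by nth_rw 1 [hi]; exact inv_mul_cancel p
  have h3 := h.1
  rwa [pow_succ, sq, h2, one_mul] at h3

namespace Data

variable {G : Type*} [Group G] (d : Data G)

/-- The second involution of the four-group. -/
def v : G := d.z * d.t * d.z⁻¹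

/-- The embedding of the model. -/
def em : Cmod →* G := embed d.e

theorem em_injective : Function.Injective d.em := embed_injective d.e

theorem em_tM : d.em tM = d.t := embed_tM d.e d.ne_one

theorem em_comm (k : Cmod) : Commute (d.em k) d.t := embed_mem d.e k

theorem exists_em {g : G} (h : Commute g d.t) : ∃ k, d.em k = g := exists_embed_eq d.e h

theorem card_centralizer_t : Nat.card (Subgroup.centralizer ({d.t} : Set G)) = 120 := by
  rw [Nat.card_congr d.e.toEquiv, card_Cmod]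

theorem inv_t : d.t⁻¹ = d.t := inv_eq_of_mul_eq_one_left d.mul_self

theorem tv : Commute d.t d.v := d.conj_comm

theorem v_sq : d.v * d.v = 1 := by
  rw [v, conj_mul, d.mul_self, mul_one, mul_inv_cancel]

theorem inv_v : d.v⁻¹ = d.v := inv_eq_of_mul_eq_one_left d.v_sq

theorem v_ne_one : d.v ≠ 1 := fun h => d.ne_one (conj_eq_one_iff.mp h)

theorem v_ne_t : d.v ≠ d.t := d.conj_ne

theorem z_t : d.z * d.t * d.z⁻¹ = d.v := rfl

theorem z_v : d.z * d.v * d.z⁻¹ = d.t * d.v := d.conj_conj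

theorem z_tv : d.z * (d.t * d.v) * d.z⁻¹ = d.t := by
  rw [← conj_mul, d.z_t, d.z_v, ← mul_assoc, ← d.tv.eq, mul_assoc, d.v_sq, mul_one]

theorem exists_kv : ∃ k, d.em k = d.v ∧ k * k = 1 ∧ k ≠ 1 ∧ k ≠ tM := by
  obtain ⟨k, hk⟩ := d.exists_em d.tv.symm
  refine ⟨k, hk, d.em_injective (by rw [map_mul, map_one, hk, d.v_sq]), fun h => d.v_ne_one ?_,
    fun h => d.v_ne_t ?_⟩
  · rw [← hk, h, map_one]
  · rw [← hk, h, d.em_tM]

/-- The common centraliser of the four-group has exponent two. -/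
theorem sq_of_commute {w : G} (h1 : Commute w d.t) (h2 : Commute w d.v) : w * w = 1 := by
  obtain ⟨k, hk, hk2, hk1, hkt⟩ := d.exists_kv
  obtain ⟨l, rfl⟩ := d.exists_em h1
  rw [← map_mul, sq_of_commute_involution k hk2 hk1 hkt l (d.em_injective (by
    rw [map_mul, map_mul, hk]; exact h2.eq)), map_one]

/-- The first slot. -/
def S0 (p : G) : Prop := Slot d.t d.v p
/-- The second slot. -/
def S1 (p : G) : Prop := Slot d.v (d.t * d.v) p
/-- The third slot. -/
def S2 (p : G) : Prop := Slot (d.t * d.v) d.t p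

theorem S0_z {p : G} (h : d.S0 p) : d.S1 (d.z * p * d.z⁻¹) := by
  have := Slot.conj h d.z
  rwa [d.z_t, d.z_v] at this

theorem S1_z {p : G} (h : d.S1 p) : d.S2 (d.z * p * d.z⁻¹) := by
  have := Slot.conj h d.z
  rwa [d.z_v, d.z_tv] at this

theorem S2_z {p : G} (h : d.S2 p) : d.S0 (d.z * p * d.z⁻¹) := by
  have := Slot.conj h d.z
  rwa [d.z_tv, d.z_t] at this

theorem S1_of {p : G} (h3 : p ^ 3 = 1) (h1 : p ≠ 1) (hc : Commute p d.v)
    (hi : d.t * p * d.t⁻¹ = p⁻¹) : d.S1 p := by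
  refine ⟨h3, h1, hc, ?_⟩
  calc d.t * d.v * p * (d.t * d.v)⁻¹ = d.t * (d.v * p * d.v⁻¹) * d.t⁻¹ := by group
    _ = p⁻¹ := by rw [hc.symm.eq, mul_inv_cancel_right, hi]

theorem S1_inv_t {p : G} (h : d.S1 p) : d.t * p * d.t⁻¹ = p⁻¹ := by
  obtain ⟨-, -, hc, hi⟩ := h
  calc d.t * p * d.t⁻¹ = d.t * (d.v * p * d.v⁻¹) * d.t⁻¹ := by
        rw [hc.symm.eq, mul_inv_cancel_right]
    _ = d.t * d.v * p * (d.t * d.v)⁻¹ := by group
    _ = p⁻¹ := hi

/-- Conjugacy inside the first slot. -/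
theorem S0_conj {p q : G} (hp : d.S0 p) (hq : d.S0 q) :
    ∃ w, Commute w d.t ∧ Commute w d.v ∧ w * p * w⁻¹ = q := by
  obtain ⟨k, hk, hk2, hk1, hkt⟩ := d.exists_kv
  obtain ⟨hp3, hp1, hpc, hpi⟩ := hp
  obtain ⟨hq3, hq1, hqc, hqi⟩ := hq
  obtain ⟨a, rfl⟩ := d.exists_em hpc
  obtain ⟨b, rfl⟩ := d.exists_em hqc
  obtain ⟨w, hw, hwab⟩ := inverted_conj_all k hk2 hk1 hkt a
    (d.em_injective (by rw [map_pow, map_one, hp3])) (fun h => hp1 (by rw [h, map_one]))
    (d.em_injective (by rw [map_mul, map_mul, map_inv, map_inv, hk, hpi])) b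
    (d.em_injective (by rw [map_pow, map_one, hq3])) (fun h => hq1 (by rw [h, map_one]))
    (d.em_injective (by rw [map_mul, map_mul, map_inv, map_inv, hk, hqi]))
  refine ⟨d.em w, d.em_comm w, ?_, by rw [← map_inv, ← map_mul, ← map_mul, hwab]⟩
  rw [← hk]
  exact (show Commute w k from hw).map d.em

theorem exists_S0 : ∃ x, d.S0 x := by
  obtain ⟨k, hk, hk2, hk1, hkt⟩ := d.exists_kv
  obtain ⟨a, ha3, ha1, hai⟩ := exists_inverted k hk2 hk1 hkt
  exact ⟨d.em a, by rw [← map_pow, ha3, map_one],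
    fun h => ha1 (d.em_injective (h.trans (map_one d.em).symm)), d.em_comm a,
    by rw [← hk, ← map_inv, ← map_inv, ← map_mul, ← map_mul, hai]⟩

theorem commute_tv_of {w : G} (h1 : Commute w d.t) (h2 : Commute w d.v) : Commute w (d.t * d.v) :=
  h1.mul_right h2

theorem commute_conj {w : G} (h1 : Commute w d.t) (h2 : Commute w d.v) :
    Commute (d.z * w * d.z⁻¹) d.t ∧ Commute (d.z * w * d.z⁻¹) d.v := by
  have ha : Commute (d.z * w * d.z⁻¹) d.v := d.z_t ▸ h1.map (MulAut.conj d.z)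
  have hb : Commute (d.z * w * d.z⁻¹) d.t := d.z_tv ▸ (h1.mul_right h2).map (MulAut.conj d.z)
  exact ⟨hb, ha⟩

theorem S1_conj {p q : G} (hp : d.S1 p) (hq : d.S1 q) :
    ∃ w, Commute w d.t ∧ Commute w d.v ∧ w * p * w⁻¹ = q := by
  have hback : ∀ r, d.S1 r → d.S0 (d.z * (d.z * r * d.z⁻¹) * d.z⁻¹) := fun r hr =>
    d.S2_z (d.S1_z hr)
  obtain ⟨w, hw1, hw2, hw⟩ := d.S0_conj (hback p hp) (hback q hq)
  have ha : Commute (d.z⁻¹ * (d.z⁻¹ * w * d.z) * d.z) d.t ∧
      Commute (d.z⁻¹ * (d.z⁻¹ * w * d.z) * d.z) d.v := by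
    have hinv : ∀ u : G, Commute u d.t → Commute u d.v →
        Commute (d.z⁻¹ * u * d.z) d.t ∧ Commute (d.z⁻¹ * u * d.z) d.v := by
      intro u h1 h2
      have e1 : d.z⁻¹ * d.v * d.z = d.t := by rw [← d.z_t]; group
      have e2 : d.z⁻¹ * (d.t * d.v) * d.z = d.v := by rw [← d.z_v]; group
      refine ⟨?_, ?_⟩
      · have := h2.map (MulAut.conj d.z⁻¹)
        simp only [MulAut.conj_apply, inv_inv, e1] at this
        exact this
      · have := (h1.mul_right h2).map (MulAut.conj d.z⁻¹)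
        simp only [MulAut.conj_apply, inv_inv, e2] at this
        exact this
    obtain ⟨a, b⟩ := hinv w hw1 hw2
    exact hinv _ a b
  refine ⟨_, ha.1, ha.2, ?_⟩
  calc d.z⁻¹ * (d.z⁻¹ * w * d.z) * d.z * p * (d.z⁻¹ * (d.z⁻¹ * w * d.z) * d.z)⁻¹ =
      d.z⁻¹ * (d.z⁻¹ * (w * (d.z * (d.z * p * d.z⁻¹) * d.z⁻¹) * w⁻¹) * d.z) * d.z := by
        simp [mul_assoc]
    _ = q := by rw [hw]; group

end Data

end CfsgLib.JankoOne
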