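import Mathlib
import Cfsg.Agent.Lib.JankoOne.Frame
import Cfsg.Agent.Lib.CharBlocks.ClassMul

/-!
# The characters on the section of the involution
-/

set_option autoImplicit false

open Subgroup CfsgLib.Char
open scoped ComplexConjugate

namespace CfsgLib.JankoOne

/-- An averaged sum over the odd powers of an element is an integer. -/
theorem exists_int_oddSum {G : Type*} [Group G] [Finite G] {χ : G → ℂ}
    (hχ : Cfsg.IsCharacter G χ) {n : ℕ} (hn : 0 < n) (hodd : Odd n) {h : G}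
    (hh : h ^ (2 * n) = 1) {ω : ℂ} (hω : ω ^ n = 1) :
    ∃ k : ℤ, (∑ i ∈ Finset.range n, χ (h ^ (2 * i + 1)) * ω ^ (2 * i + 1)) = (n : ℂ) * k := by
  obtain ⟨m, ρ, rfl⟩ := hχ
  obtain ⟨z, hz, hsum⟩ := exists_roots_char_pow ρ h
  have hterm : ∀ j, ∃ k : ℤ,
      (∑ i ∈ Finset.range n, (z j * ω) ^ (2 * i + 1)) = (n : ℂ) * k := by
    intro j
    set w := z j * ω
    have hw : w ^ (2 * n) = 1 := by
      rw [mul_pow]
      obtain ⟨c, hc⟩ := orderOf_dvd_of_pow_eq_one hh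
      nth_rw 1 [hc]
      rw [pow_mul, hz j, one_pow, one_mul, mul_comm 2 n, pow_mul, hω, one_pow]
    by_cases hw2 : w ^ 2 = 1
    · have he : ∀ i ∈ Finset.range n, w ^ (2 * i + 1) = w := fun i _ => by
        rw [pow_succ, pow_mul, hw2, one_pow, one_mul]
      rw [Finset.sum_congr rfl he, Finset.sum_const, Finset.card_range, nsmul_eq_mul]
      rcases sq_eq_one_iff.mp hw2 with e | e
      · exact ⟨1, by rw [e, Int.cast_one]⟩
      · exact ⟨-1, by rw [e, Int.cast_neg, Int.cast_one]⟩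
    · refine ⟨0, ?_⟩
      rw [Int.cast_zero, mul_zero]
      rw [Finset.sum_congr rfl fun i _ => show w ^ (2 * i + 1) = (w ^ 2) ^ i * w by
        rw [pow_succ, pow_mul]]
      rw [← Finset.sum_mul, geom_sum_eq hw2, ← pow_mul, hw, sub_self, zero_div, zero_mul]
  choose k hk using hterm
  refine ⟨∑ j, k j, ?_⟩
  rw [Int.cast_sum, Finset.mul_sum, ← Finset.sum_congr rfl (fun j _ => hk j), Finset.sum_comm]
  refine Finset.sum_congr rfl fun i _ => ?_
  rw [hsum, Finset.sum_mul]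
  exact Finset.sum_congr rfl fun j _ => (mul_pow _ _ _).symm

theorem card_conj_eq {G : Type*} [Group G] [Finite G] (t w : G) [Decidable (IsConj t w)] :
    Nat.card {b : G // b * t * b⁻¹ = w} =
      if IsConj t w then Nat.card (Subgroup.centralizer ({t} : Set G)) else 0 := by
  split_ifs with h
  · obtain ⟨c, rfl⟩ := isConj_iff.mp h
    refine Nat.card_congr
      { toFun := fun b => ⟨c⁻¹ * b, mem_centralizer_singleton_iff.mpr ?_⟩
        invFun := fun a => ⟨c * a, ?_⟩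
        left_inv := fun b => Subtype.ext (mul_inv_cancel_left c (b : G))
        right_inv := fun a => Subtype.ext (inv_mul_cancel_left c (a : G)) }
    · obtain ⟨b, hb⟩ := b
      calc c⁻¹ * b * t = c⁻¹ * (b * t * b⁻¹) * b := by group
        _ = t * (c⁻¹ * b) := by rw [hb]; group
    · have ha := mem_centralizer_singleton_iff.mp a.2
      calc c * a * t * (c * (a : G))⁻¹ = c * ((a : G) * t) * (a : G)⁻¹ * c⁻¹ := by group
        _ = c * t * c⁻¹ := by rw [ha]; group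
  · haveI : IsEmpty {b : G // b * t * b⁻¹ = w} := ⟨fun b => h (isConj_iff.mpr ⟨b.1, b.2⟩)⟩
    exact Nat.card_of_isEmpty

/-- The triple count behind the class equation. -/
theorem card_conj_mul {G : Type*} [Group G] [Fintype G] {t z : G} (ht : t * t = 1) :
    Nat.card {g : G // IsConj (g * t * g⁻¹ * t) z} *
        Nat.card (Subgroup.centralizer ({z} : Set G)) =
      Nat.card (Subgroup.centralizer ({t} : Set G)) *
        (Nat.card (Subgroup.centralizer ({t} : Set G)) *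
          Nat.card {u : G // IsConj t u ∧ IsConj t (u * z)}) := by
  classical
  set c := Nat.card (Subgroup.centralizer ({t} : Set G))
  have h1 : Nat.card {g : G // IsConj (g * t * g⁻¹ * t) z} *
        Nat.card (Subgroup.centralizer ({z} : Set G)) =
      Nat.card {p : G × G // p.2 * z * p.2⁻¹ = p.1 * t * p.1⁻¹ * t} := by
    rw [Nat.card_eq_fintype_card (α := {p : G × G // p.2 * z * p.2⁻¹ = p.1 * t * p.1⁻¹ * t}),
      Fintype.card_congr (Equiv.subtypeProdEquivSigmaSubtype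
        (fun g h : G => h * z * h⁻¹ = g * t * g⁻¹ * t)), Fintype.card_sigma]
    simp only [← Nat.card_eq_fintype_card, card_conj_eq]
    rw [← Finset.sum_filter, Finset.sum_const, smul_eq_mul, ← Fintype.card_subtype,
      ← Nat.card_eq_fintype_card]
    congr 1
    exact Nat.card_congr (Equiv.subtypeEquivRight fun g => isConj_comm)
  have h2 : Nat.card {p : G × G // p.2 * z * p.2⁻¹ = p.1 * t * p.1⁻¹ * t} =
      Nat.card {p : G × G // p.2 * t * p.2⁻¹ = p.1 * t * p.1⁻¹ * z} := by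
    refine Nat.card_congr
      { toFun := fun p => ⟨(p.1.2⁻¹ * p.1.1, p.1.2⁻¹), ?_⟩
        invFun := fun p => ⟨(p.1.2⁻¹ * p.1.1, p.1.2⁻¹), ?_⟩
        left_inv := fun p => Subtype.ext (Prod.ext (by simp) (by simp))
        right_inv := fun p => Subtype.ext (Prod.ext (by simp) (by simp)) }
    · obtain ⟨⟨g, h⟩, hp⟩ := p
      dsimp only at hp ⊢
      have hti : t⁻¹ = t := inv_eq_of_mul_eq_one_left ht
      have e : h⁻¹ * g * t * (h⁻¹ * g)⁻¹ * z = h⁻¹ * (g * t * g⁻¹) * (h * z * h⁻¹) * h := by group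
      rw [e, hp, inv_inv]
      calc h⁻¹ * t * h = h⁻¹ * ((g * t * g⁻¹) * (g * t⁻¹ * g⁻¹)) * t * h := by group
        _ = _ := by rw [hti]; group
    · obtain ⟨⟨a, b⟩, hp⟩ := p
      dsimp only at hp ⊢
      have hti : t⁻¹ = t := inv_eq_of_mul_eq_one_left ht
      rw [inv_inv]
      have e : z = (a * t⁻¹ * a⁻¹) * (b * t * b⁻¹) := by rw [hp]; group
      rw [e, hti]
      group
  have h3 : Nat.card {p : G × G // p.2 * t * p.2⁻¹ = p.1 * t * p.1⁻¹ * z} =
      c * (c * Nat.card {u : G // IsConj t u ∧ IsConj t (u * z)}) := by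
    rw [Nat.card_eq_fintype_card, Fintype.card_congr (Equiv.subtypeProdEquivSigmaSubtype
        (fun a b : G => b * t * b⁻¹ = a * t * a⁻¹ * z)), Fintype.card_sigma]
    simp only [← Nat.card_eq_fintype_card, card_conj_eq]
    rw [← Finset.sum_fiberwise Finset.univ (fun a : G => a * t * a⁻¹)]
    rw [Finset.sum_congr rfl fun u _ => show _ = (if IsConj t u then c else 0) *
        (if IsConj t (u * z) then c else 0) by
      rw [Finset.sum_congr rfl fun a ha => by rw [(Finset.mem_filter.mp ha).2],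
        Finset.sum_const, smul_eq_mul, ← Fintype.card_subtype, ← Nat.card_eq_fintype_card, card_conj_eq]]
    simp only [ite_mul, zero_mul, mul_ite, mul_zero, ← ite_and]
    rw [← Finset.sum_filter, Finset.sum_const, smul_eq_mul, Nat.card_eq_fintype_card,
      Fintype.card_subtype]
    rw [show (Finset.univ.filter fun u => IsConj t (u * z) ∧ IsConj t u) =
      Finset.univ.filter fun u => IsConj t u ∧ IsConj t (u * z) from
        Finset.filter_congr fun u _ => and_comm]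
    ring
  rw [h1, h2, h3]

namespace Data

variable {G : Type*} [Group G] (d : Data G)

/-- An element of order six in the centraliser of the involution. -/
def gx : G := d.em (tM * xM)
/-- An element of order ten in the centraliser of the involution. -/
def gy : G := d.em (tM * yM)
/-- A second element of order ten, not conjugate to the first. -/
def gy2 : G := d.em (tM * yM ^ 2)

theorem card_centralizer_em {k : Cmod} {n : ℕ} (hk : k ^ n = tM) :
    Nat.card (Subgroup.centralizer ({d.em k} : Set G)) = Fintype.card {l : Cmod // l * k = k * l} := by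
  rw [← Nat.card_eq_fintype_card]
  have hct : ∀ g, Commute g (d.em k) → Commute g d.t := fun g hg => by
    have := hg.pow_right n
    rwa [← map_pow, hk, d.em_tM] at this
  symm
  refine Nat.card_congr (Equiv.ofBijective
    (fun l => ⟨d.em l.1, mem_centralizer_singleton_iff.mpr (by rw [← map_mul, l.2, map_mul])⟩)
    ⟨fun a b h => Subtype.ext (d.em_injective (by simpa using congrArg Subtype.val h)), fun g => ?_⟩)
  obtain ⟨l, hl⟩ := d.exists_em (hct g.1 (mem_centralizer_singleton_iff.mp g.2))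
  exact ⟨⟨l, d.em_injective (by
    rw [map_mul, map_mul, hl]; exact mem_centralizer_singleton_iff.mp g.2)⟩, Subtype.ext hl⟩

theorem card_gx : Nat.card (Subgroup.centralizer ({d.gx} : Set G)) = 6 := by
  rw [gx, d.card_centralizer_em xM_conj.1, card_centralizer_xM]

theorem card_gy : Nat.card (Subgroup.centralizer ({d.gy} : Set G)) = 10 := by
  rw [gy, d.card_centralizer_em yM_conj.1, card_centralizer_yM]

theorem card_gy2 : Nat.card (Subgroup.centralizer ({d.gy2} : Set G)) = 10 := by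
  rw [gy2, d.card_centralizer_em yM2_conj.1, card_centralizer_yM2]

theorem pow_eq_of_isConj {a b : G} (h : IsConj a b) {n : ℕ} (ha : a ^ n = 1) : b ^ n = 1 := by
  obtain ⟨c, rfl⟩ := isConj_iff.mp h
  rw [conj_pow, ha, mul_one, mul_inv_cancel]

theorem em_pow_ne {k : Cmod} {n : ℕ} (h : k ^ n ≠ 1) : d.em k ^ n ≠ 1 := fun e =>
  h (d.em_injective (by rw [map_pow, e, map_one]))

theorem em_pow_eq {k : Cmod} {n : ℕ} (h : k ^ n = 1) : d.em k ^ n = 1 := by
  rw [← map_pow, h, map_one]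

theorem not_conj : ¬IsConj d.t d.gx ∧ ¬IsConj d.t d.gy ∧ ¬IsConj d.t d.gy2 ∧
    ¬IsConj d.gx d.gy ∧ ¬IsConj d.gx d.gy2 ∧ ¬IsConj d.gy d.gy2 := by
  have ht : d.t ^ 2 = 1 := by rw [sq, d.mul_self]
  have hx : d.gx ^ 6 = 1 := d.em_pow_eq xM_conj.2.2.2
  refine ⟨fun h => d.em_pow_ne xM_conj.2.2.1 (pow_eq_of_isConj h ht),
    fun h => d.em_pow_ne yM_conj.2.2.1 (pow_eq_of_isConj h ht),
    fun h => d.em_pow_ne yM2_conj.2.2.1 (pow_eq_of_isConj h ht),
    fun h => d.em_pow_ne yM_conj.2.2.2.1 (pow_eq_of_isConj h hx),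
    fun h => d.em_pow_ne yM2_conj.2.2.2.1 (pow_eq_of_isConj h hx), fun h => ?_⟩
  obtain ⟨c, hc⟩ := isConj_iff.mp h
  have hc5 : c * d.t * c⁻¹ = d.t := by
    have := congrArg (· ^ 5) hc
    simp only [conj_pow, gy, gy2, ← map_pow, yM_conj.1, yM2_conj.1, d.em_tM] at this
    exact this
  obtain ⟨k, rfl⟩ := d.exists_em (show Commute c d.t from mul_inv_eq_iff_eq_mul.mp hc5)
  refine not_conj_yM k (d.em_injective ?_)
  rw [map_mul, map_mul, map_inv]
  exact hc

theorem apply_inv {χ : G → ℂ} (hχ : Cfsg.IsCharacter G χ) {k : Cmod}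
    (hk : vM * k * vM⁻¹ = k⁻¹) : χ (d.em k)⁻¹ = χ (d.em k) := by
  have hc : IsConj (d.em k) (d.em k)⁻¹ := by
    refine isConj_iff.mpr ⟨d.em vM, ?_⟩
    rw [← map_inv, ← map_mul, ← map_mul, hk, map_inv]
  exact (isClassFunction_iff.mp (isClassFunction_of_isCharacter hχ) _ _ hc).symm

variable [Fintype G]

theorem conj_apply_em {χ : G → ℂ} (hχ : Cfsg.IsCharacter G χ) {k : Cmod}
    (hk : vM * k * vM⁻¹ = k⁻¹) : conj (χ (d.em k)) = χ (d.em k) := by
  rw [← char_inv hχ, d.apply_inv hχ hk]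

theorem conj_t {χ : G → ℂ} (hχ : Cfsg.IsCharacter G χ) : conj (χ d.t) = χ d.t := by
  rw [← char_inv hχ, d.inv_t]

/-- Second orthogonality for combinations of the four columns. -/
theorem gram (a1 a2 a3 a4 b1 b2 b3 b4 : ℂ) :
    ∑ χ : Cfsg.IrrCharacter G,
      (a1 * χ.1 d.t + a2 * χ.1 d.gx + a3 * χ.1 d.gy + a4 * χ.1 d.gy2) *
      (b1 * χ.1 d.t + b2 * χ.1 d.gx + b3 * χ.1 d.gy + b4 * χ.1 d.gy2) =
    120 * (a1 * b1) + 6 * (a2 * b2) + 10 * (a3 * b3) + 10 * (a4 * b4) := by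
  classical
  obtain ⟨n1, n2, n3, n4, n5, n6⟩ := d.not_conj
  have rt : ∀ χ : Cfsg.IrrCharacter G, conj (χ.1 d.t) = χ.1 d.t :=
    fun χ => d.conj_t (isCharacter_of_isIrr χ.2)
  have rx : ∀ χ : Cfsg.IrrCharacter G, conj (χ.1 d.gx) = χ.1 d.gx :=
    fun χ => d.conj_apply_em (isCharacter_of_isIrr χ.2) xM_conj.2.1
  have ry : ∀ χ : Cfsg.IrrCharacter G, conj (χ.1 d.gy) = χ.1 d.gy :=
    fun χ => d.conj_apply_em (isCharacter_of_isIrr χ.2) yM_conj.2.1
  have rz : ∀ χ : Cfsg.IrrCharacter G, conj (χ.1 d.gy2) = χ.1 d.gy2 :=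
    fun χ => d.conj_apply_em (isCharacter_of_isIrr χ.2) yM2_conj.2.1
  have e11 : ∑ χ : Cfsg.IrrCharacter G, χ.1 d.t * χ.1 d.t = 120 := by
    have h := second_orthogonality d.t d.t
    simp only [rt, if_pos (IsConj.refl d.t), d.card_centralizer_t] at h
    exact_mod_cast h
  have e22 : ∑ χ : Cfsg.IrrCharacter G, χ.1 d.gx * χ.1 d.gx = 6 := by
    have h := second_orthogonality d.gx d.gx
    simp only [rx, if_pos (IsConj.refl d.gx), d.card_gx] at h
    exact_mod_cast h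
  have e33 : ∑ χ : Cfsg.IrrCharacter G, χ.1 d.gy * χ.1 d.gy = 10 := by
    have h := second_orthogonality d.gy d.gy
    simp only [ry, if_pos (IsConj.refl d.gy), d.card_gy] at h
    exact_mod_cast h
  have e44 : ∑ χ : Cfsg.IrrCharacter G, χ.1 d.gy2 * χ.1 d.gy2 = 10 := by
    have h := second_orthogonality d.gy2 d.gy2
    simp only [rz, if_pos (IsConj.refl d.gy2), d.card_gy2] at h
    exact_mod_cast h
  have e12 : ∑ χ : Cfsg.IrrCharacter G, χ.1 d.t * χ.1 d.gx = 0 := by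
    have h := second_orthogonality d.t d.gx
    simpa only [rx, if_neg n1] using h
  have e13 : ∑ χ : Cfsg.IrrCharacter G, χ.1 d.t * χ.1 d.gy = 0 := by
    have h := second_orthogonality d.t d.gy
    simpa only [ry, if_neg n2] using h
  have e14 : ∑ χ : Cfsg.IrrCharacter G, χ.1 d.t * χ.1 d.gy2 = 0 := by
    have h := second_orthogonality d.t d.gy2
    simpa only [rz, if_neg n3] using h
  have e23 : ∑ χ : Cfsg.IrrCharacter G, χ.1 d.gx * χ.1 d.gy = 0 := by
    have h := second_orthogonality d.gx d.gy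
    simpa only [ry, if_neg n4] using h
  have e24 : ∑ χ : Cfsg.IrrCharacter G, χ.1 d.gx * χ.1 d.gy2 = 0 := by
    have h := second_orthogonality d.gx d.gy2
    simpa only [rz, if_neg n5] using h
  have e34 : ∑ χ : Cfsg.IrrCharacter G, χ.1 d.gy * χ.1 d.gy2 = 0 := by
    have h := second_orthogonality d.gy d.gy2
    simpa only [rz, if_neg n6] using h
  have hexp : ∀ χ : Cfsg.IrrCharacter G,
      (a1 * χ.1 d.t + a2 * χ.1 d.gx + a3 * χ.1 d.gy + a4 * χ.1 d.gy2) *
      (b1 * χ.1 d.t + b2 * χ.1 d.gx + b3 * χ.1 d.gy + b4 * χ.1 d.gy2) =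
      a1 * b1 * (χ.1 d.t * χ.1 d.t) + a2 * b2 * (χ.1 d.gx * χ.1 d.gx) +
      a3 * b3 * (χ.1 d.gy * χ.1 d.gy) + a4 * b4 * (χ.1 d.gy2 * χ.1 d.gy2) +
      (a1 * b2 + a2 * b1) * (χ.1 d.t * χ.1 d.gx) + (a1 * b3 + a3 * b1) * (χ.1 d.t * χ.1 d.gy) +
      (a1 * b4 + a4 * b1) * (χ.1 d.t * χ.1 d.gy2) + (a2 * b3 + a3 * b2) * (χ.1 d.gx * χ.1 d.gy) +
      (a2 * b4 + a4 * b2) * (χ.1 d.gx * χ.1 d.gy2) +
      (a3 * b4 + a4 * b3) * (χ.1 d.gy * χ.1 d.gy2) := fun χ => by ring
  simp only [hexp, Finset.sum_add_distrib, ← Finset.mul_sum, e11, e22, e33, e44, e12, e13, e14,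
    e23, e24, e34]
  ring

/-- The degree equation at the four columns. -/
theorem sum_degree (a1 a2 a3 a4 : ℂ) :
    ∑ χ : Cfsg.IrrCharacter G,
      χ.1 1 * (a1 * χ.1 d.t + a2 * χ.1 d.gx + a3 * χ.1 d.gy + a4 * χ.1 d.gy2) = 0 := by
  classical
  have h : ∀ g : G, g ≠ 1 → ∑ χ : Cfsg.IrrCharacter G, χ.1 1 * χ.1 g = 0 := fun g hg => by
    rw [sum_degree_mul_apply, if_neg hg]
  have hx : d.gx ≠ 1 := fun e => d.em_pow_ne xM_conj.2.2.1 (by rw [← gx, e, one_pow])
  have hy : d.gy ≠ 1 := fun e => d.em_pow_ne yM_conj.2.2.1 (by rw [← gy, e, one_pow])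
  have hz : d.gy2 ≠ 1 := fun e => d.em_pow_ne yM2_conj.2.2.1 (by rw [← gy2, e, one_pow])
  simp only [mul_add, mul_left_comm _ a1, mul_left_comm _ a2, mul_left_comm _ a3,
    mul_left_comm _ a4, Finset.sum_add_distrib, ← Finset.mul_sum, h _ d.ne_one, h _ hx, h _ hy,
    h _ hz, mul_zero, add_zero]

/-- The class equation at an element with a power equal to the involution. -/
theorem struct {k : Cmod} {n : ℕ} (hk : k ^ n = tM) (hinv : vM * k * vM⁻¹ = k⁻¹) {N : ℕ}
    (hN : Fintype.card {u : Cmod // u * u = 1 ∧ u ≠ 1 ∧ u * k * (u * k) = 1 ∧ u * k ≠ 1} = N) :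
    (Nat.card G : ℂ) * ∑ χ : Cfsg.IrrCharacter G, χ.1 d.t * χ.1 d.t * χ.1 (d.em k) / χ.1 1 =
      14400 * N := by
  have hcount : Nat.card {u : G // IsConj d.t u ∧ IsConj d.t (u * d.em k)} = N := by
    rw [← hN, ← Nat.card_eq_fintype_card]
    have hinvol : ∀ u : G, IsConj d.t u ↔ u * u = 1 ∧ u ≠ 1 := fun u => by
      refine ⟨fun h => ?_, fun h => d.fusion u h.1 h.2⟩
      obtain ⟨c, rfl⟩ := isConj_iff.mp h
      exact ⟨by rw [conj_mul, d.mul_self, mul_one, mul_inv_cancel],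
        fun e => d.ne_one (conj_eq_one_iff.mp e)⟩
    symm
    refine Nat.card_congr (Equiv.ofBijective (fun u => ⟨d.em u.1, ?_⟩)
      ⟨fun a b h => Subtype.ext (d.em_injective (by simpa using congrArg Subtype.val h)), fun g => ?_⟩)
    · obtain ⟨u, h1, h2, h3, h4⟩ := u
      refine ⟨(hinvol _).mpr ⟨by rw [← map_mul, h1, map_one],
        fun e => h2 (d.em_injective (e.trans (map_one d.em).symm))⟩, (hinvol _).mpr
        ⟨by rw [← map_mul, ← map_mul, h3, map_one],
          fun e => h4 (d.em_injective (by rw [map_mul, e, map_one]))⟩⟩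
    · obtain ⟨u, hu, huz⟩ := g
      obtain ⟨h1, h2⟩ := (hinvol u).mp hu
      obtain ⟨h3, h4⟩ := (hinvol _).mp huz
      have hui : u⁻¹ = u := inv_eq_of_mul_eq_one_left h1
      have huinv : u * d.em k * u⁻¹ = (d.em k)⁻¹ := by
        refine eq_inv_of_mul_eq_one_left ?_
        rw [hui]
        calc u * d.em k * u * d.em k = u * d.em k * (u * d.em k) := by group
          _ = 1 := h3
      have hut : Commute u d.t := by
        have := congrArg (· ^ n) huinv
        simp only [conj_pow, inv_pow, ← map_pow, hk, d.em_tM, d.inv_t] at this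
        exact mul_inv_eq_iff_eq_mul.mp this
      obtain ⟨l, rfl⟩ := d.exists_em hut
      exact ⟨⟨l, d.em_injective (by rw [map_mul, map_one, h1]), fun e => h2 (by rw [e, map_one]),
        d.em_injective (by rw [map_mul, map_mul, map_one, h3]),
        fun e => h4 (by rw [← map_mul, e, map_one])⟩, rfl⟩
  have hm := CfsgLib.CharBlocks.card_conj_mul_isConj d.t d.t (d.em k)
  rw [← Nat.cast_mul, card_conj_mul d.mul_self, d.card_centralizer_t, hcount] at hm
  rw [Finset.sum_congr rfl fun χ _ => by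
    rw [← d.conj_apply_em (isCharacter_of_isIrr χ.2) hinv]]
  rw [← hm]
  push_cast
  ring

/-- The class equation for a combination of the four columns. -/
theorem struct_comb (a1 a2 a3 a4 : ℂ) :
    (Nat.card G : ℂ) * ∑ χ : Cfsg.IrrCharacter G, χ.1 d.t * χ.1 d.t *
        (a1 * χ.1 d.t + a2 * χ.1 d.gx + a3 * χ.1 d.gy + a4 * χ.1 d.gy2) / χ.1 1 =
      14400 * (30 * a1 + 6 * a2 + 10 * a3 + 10 * a4) := by
  have h1 := d.struct (k := tM) (n := 1) (pow_one tM) (by decide +kernel) card_struct_tM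
  rw [d.em_tM] at h1
  have h2 := d.struct xM_conj.1 xM_conj.2.1 card_struct_xM
  have h3 := d.struct yM_conj.1 yM_conj.2.1 card_struct_yM
  have h4 := d.struct yM2_conj.1 yM2_conj.2.1 card_struct_yM2
  rw [show d.em (tM * xM) = d.gx from rfl] at h2
  rw [show d.em (tM * yM) = d.gy from rfl] at h3
  rw [show d.em (tM * yM ^ 2) = d.gy2 from rfl] at h4
  push_cast at h1 h2 h3 h4
  have hexp : ∀ χ : Cfsg.IrrCharacter G, χ.1 d.t * χ.1 d.t *
        (a1 * χ.1 d.t + a2 * χ.1 d.gx + a3 * χ.1 d.gy + a4 * χ.1 d.gy2) / χ.1 1 =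
      a1 * (χ.1 d.t * χ.1 d.t * χ.1 d.t / χ.1 1) + a2 * (χ.1 d.t * χ.1 d.t * χ.1 d.gx / χ.1 1) +
      a3 * (χ.1 d.t * χ.1 d.t * χ.1 d.gy / χ.1 1) +
      a4 * (χ.1 d.t * χ.1 d.t * χ.1 d.gy2 / χ.1 1) := fun χ => by ring
  simp only [hexp, Finset.sum_add_distrib, ← Finset.mul_sum]
  linear_combination a1 * h1 + a2 * h2 + a3 * h3 + a4 * h4

theorem exists_fifth : ∃ c c' ω : ℂ, c = ω + ω ^ 4 ∧ c' = ω ^ 2 + ω ^ 3 ∧ ω ^ 5 = 1 ∧
    c + c' = -1 ∧ c * c' = -1 := by
  have hp := Complex.isPrimitiveRoot_exp 5 (by norm_num)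
  generalize Complex.exp (2 * Real.pi * Complex.I / (5 : ℕ)) = ω at hp
  have h5 : ω ^ 5 = 1 := hp.pow_eq_one
  have hs := hp.geom_sum_eq_zero (by norm_num)
  simp only [Finset.sum_range_succ, Finset.sum_range_zero, zero_add, pow_zero, pow_one] at hs
  exact ⟨_, _, ω, rfl, rfl, h5, by linear_combination hs,
    by linear_combination hs + (ω + ω ^ 2) * h5⟩

/-- The four integral multiplicities. -/
theorem exists_mult : ∃ (c c' : ℂ) (A B D X : Cfsg.IrrCharacter G → ℤ),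
    c + c' = -1 ∧ c * c' = -1 ∧
    (∀ χ, (A χ : ℂ) = 1 / 15 * χ.1 d.t + 1 / 3 * χ.1 d.gx + (2 + c) / 5 * χ.1 d.gy +
      (2 + c') / 5 * χ.1 d.gy2) ∧
    (∀ χ, (B χ : ℂ) = 1 / 15 * χ.1 d.t + 1 / 3 * χ.1 d.gx + (2 + c') / 5 * χ.1 d.gy +
      (2 + c) / 5 * χ.1 d.gy2) ∧
    (∀ χ, (D χ : ℂ) = -1 / 15 * χ.1 d.t + 2 / 3 * χ.1 d.gx + 1 / 5 * χ.1 d.gy +
      1 / 5 * χ.1 d.gy2) ∧
    (∀ χ, (X χ : ℂ) = 1 / 15 * χ.1 d.t + 1 / 3 * χ.1 d.gx + -1 / 5 * χ.1 d.gy +
      -1 / 5 * χ.1 d.gy2) := by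
  obtain ⟨c, c', ω, hc, hc', h5, hsum, hprod⟩ := exists_fifth
  obtain ⟨μ, h3, hμ⟩ : ∃ μ : ℂ, μ ^ 3 = 1 ∧ μ + μ ^ 2 = -1 := by
    have hp := Complex.isPrimitiveRoot_exp 3 (by norm_num)
    generalize Complex.exp (2 * Real.pi * Complex.I / (3 : ℕ)) = μ at hp
    have hs := hp.geom_sum_eq_zero (by norm_num)
    simp only [Finset.sum_range_succ, Finset.sum_range_zero, zero_add, pow_zero, pow_one] at hs
    exact ⟨μ, hp.pow_eq_one, by linear_combination hs⟩
  have hfive : ∀ (χ : Cfsg.IrrCharacter G) (ν : ℂ), ν ^ 5 = 1 → ∃ k : ℤ,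
      χ.1 d.t + (ν + ν ^ 4) * χ.1 d.gy + (ν ^ 2 + ν ^ 3) * χ.1 d.gy2 = 5 * (k : ℂ) := by
    intro χ ν hν
    have hch := isCharacter_of_isIrr χ.2
    obtain ⟨k, hk⟩ := exists_int_oddSum hch (n := 5) (by norm_num) (by decide)
      (h := d.gy) (d.em_pow_eq yM_conj.2.2.2.2) hν
    simp only [Finset.sum_range_succ, Finset.sum_range_zero, zero_add] at hk
    norm_num at hk
    have e5 : d.gy ^ 5 = d.t := by rw [gy, ← map_pow, yM_conj.1, d.em_tM]
    have e10 : d.gy ^ 10 = 1 := d.em_pow_eq yM_conj.2.2.2.2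
    have c3 : χ.1 (d.gy ^ 3) = χ.1 d.gy2 := by
      refine isClassFunction_iff.mp (isClassFunction_of_isCharacter hch) _ _
        (isConj_iff.mpr ⟨d.em vM, ?_⟩)
      rw [gy, ← map_pow, ← map_inv, ← map_mul, ← map_mul, yM2_conj.2.2.2.2.2]
      rfl
    have c7 : χ.1 (d.gy ^ 7) = χ.1 d.gy2 := by
      rw [show d.gy ^ 7 = (d.gy ^ 3)⁻¹ from eq_inv_of_mul_eq_one_left (by rw [← pow_add, e10]),
        char_inv hch, c3]
      exact d.conj_apply_em hch yM2_conj.2.1
    have c9 : χ.1 (d.gy ^ 9) = χ.1 d.gy := by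
      rw [show d.gy ^ 9 = d.gy⁻¹ from eq_inv_of_mul_eq_one_left (by rw [← pow_succ, e10]),
        char_inv hch]
      exact d.conj_apply_em hch yM_conj.2.1
    rw [e5, c3, c7, c9] at hk
    refine ⟨k, ?_⟩
    linear_combination hk - (χ.1 d.t + ν ^ 2 * χ.1 d.gy2 + ν ^ 4 * χ.1 d.gy) * hν
  have hthree : ∀ (χ : Cfsg.IrrCharacter G) (ν : ℂ), ν ^ 3 = 1 → ∃ k : ℤ,
      χ.1 d.t + (ν + ν ^ 2) * χ.1 d.gx = 3 * (k : ℂ) := by
    intro χ ν hν
    have hch := isCharacter_of_isIrr χ.2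
    obtain ⟨k, hk⟩ := exists_int_oddSum hch (n := 3) (by norm_num) (by decide)
      (h := d.gx) (d.em_pow_eq xM_conj.2.2.2) hν
    simp only [Finset.sum_range_succ, Finset.sum_range_zero, zero_add] at hk
    norm_num at hk
    have e3 : d.gx ^ 3 = d.t := by rw [gx, ← map_pow, xM_conj.1, d.em_tM]
    have e6 : d.gx ^ 6 = 1 := d.em_pow_eq xM_conj.2.2.2
    have c5 : χ.1 (d.gx ^ 5) = χ.1 d.gx := by
      rw [show d.gx ^ 5 = d.gx⁻¹ from eq_inv_of_mul_eq_one_left (by rw [← pow_succ, e6]),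
        char_inv hch]
      exact d.conj_apply_em hch xM_conj.2.1
    rw [e3, c5] at hk
    refine ⟨k, ?_⟩
    linear_combination hk - (χ.1 d.t + ν ^ 2 * χ.1 d.gx) * hν
  choose F1 hF1 using fun χ => hfive χ ω h5
  choose F2 hF2 using fun χ => hfive χ (ω ^ 2) (by rw [← pow_mul, mul_comm, pow_mul, h5, one_pow])
  choose F0 hF0 using fun χ => hfive χ 1 (one_pow 5)
  choose H1 hH1 using fun χ => hthree χ μ h3
  choose H0 hH0 using fun χ => hthree χ 1 (one_pow 3)
  have e1 : ∀ χ : Cfsg.IrrCharacter G,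
      χ.1 d.t + c * χ.1 d.gy + c' * χ.1 d.gy2 = 5 * (F1 χ : ℂ) := by
    intro χ; rw [hc, hc']; exact hF1 χ
  have e2 : ∀ χ : Cfsg.IrrCharacter G,
      χ.1 d.t + c' * χ.1 d.gy + c * χ.1 d.gy2 = 5 * (F2 χ : ℂ) := by
    intro χ
    rw [hc, hc', ← hF2 χ]
    linear_combination -(ω ^ 3 * χ.1 d.gy + ω * χ.1 d.gy2) * h5
  have e0 : ∀ χ : Cfsg.IrrCharacter G,
      χ.1 d.t + 2 * χ.1 d.gy + 2 * χ.1 d.gy2 = 5 * (F0 χ : ℂ) := by
    intro χ; rw [← hF0 χ]; ring
  have m1 : ∀ χ : Cfsg.IrrCharacter G, χ.1 d.t - χ.1 d.gx = 3 * (H1 χ : ℂ) := by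
    intro χ; rw [← hH1 χ, hμ]; ring
  have m0 : ∀ χ : Cfsg.IrrCharacter G, χ.1 d.t + 2 * χ.1 d.gx = 3 * (H0 χ : ℂ) := by
    intro χ; rw [← hH0 χ]; ring
  refine ⟨c, c', fun χ => F1 χ + F0 χ - H1 χ, fun χ => F2 χ + F0 χ - H1 χ,
    fun χ => H0 χ - F1 χ - F2 χ, fun χ => F1 χ + F2 χ - H1 χ, hsum, hprod, ?_, ?_, ?_, ?_⟩ <;>
    intro χ <;> push_cast
  · linear_combination -(1 / 5 : ℂ) * e1 χ - (1 / 5 : ℂ) * e0 χ + (1 / 3 : ℂ) * m1 χ
  · linear_combination -(1 / 5 : ℂ) * e2 χ - (1 / 5 : ℂ) * e0 χ + (1 / 3 : ℂ) * m1 χ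
  · linear_combination -(1 / 3 : ℂ) * m0 χ + (1 / 5 : ℂ) * e1 χ + (1 / 5 : ℂ) * e2 χ -
      (1 / 5 : ℂ) * (χ.1 d.gy + χ.1 d.gy2) * hsum
  · linear_combination -(1 / 5 : ℂ) * e1 χ - (1 / 5 : ℂ) * e2 χ + (1 / 3 : ℂ) * m1 χ +
      (1 / 5 : ℂ) * (χ.1 d.gy + χ.1 d.gy2) * hsum

/-- The restriction to the Sylow two-subgroup: `χ 1 ≡ χ t` modulo eight. -/
theorem congr_eight {χ : G → ℂ} (hχ : Cfsg.IsCharacter G χ) :
    ∃ k : ℕ, χ 1 + 7 * χ d.t = 8 * (k : ℂ) := by
  classical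
  obtain ⟨kv, hk, hk2, hk1, hkt⟩ := d.exists_kv
  set S : Subgroup G := Subgroup.centralizer ({d.t} : Set G) ⊓ Subgroup.centralizer ({d.v} : Set G)
  have hsq : ∀ w ∈ S, w * w = 1 := fun w hw =>
    d.sq_of_commute (mem_centralizer_singleton_iff.mp hw.1) (mem_centralizer_singleton_iff.mp hw.2)
  have hcard : Nat.card S = 8 := by
    rw [← card_centralizer_involution kv hk2 hk1 hkt, ← Nat.card_eq_fintype_card]
    symm
    refine Nat.card_congr (Equiv.ofBijective (fun l => ⟨d.em l.1, ?_⟩)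
      ⟨fun a b h => Subtype.ext (d.em_injective (by simpa using congrArg Subtype.val h)), fun g => ?_⟩)
    · exact ⟨mem_centralizer_singleton_iff.mpr (d.em_comm _).eq,
        mem_centralizer_singleton_iff.mpr (by rw [← hk, ← map_mul, ← map_mul, l.2])⟩
    · obtain ⟨l, hl⟩ := d.exists_em (mem_centralizer_singleton_iff.mp g.2.1 : Commute g.1 d.t)
      exact ⟨⟨l, d.em_injective (by
        rw [map_mul, map_mul, hl, hk]; exact mem_centralizer_singleton_iff.mp g.2.2)⟩, Subtype.ext hl⟩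
  obtain ⟨k, hk'⟩ := classInner_char_nat (G := S) (φ := fun s : S => χ s) (isCharacter_res S hχ)
    isCharacter_one
  rw [classInner_one_right, hcard] at hk'
  refine ⟨k, ?_⟩
  have hval : ∀ s : S, χ s = if s = 1 then χ 1 else χ d.t := by
    intro s
    split_ifs with h
    · rw [h, coe_one]
    · exact (isClassFunction_iff.mp (isClassFunction_of_isCharacter hχ) _ _
        (d.fusion s (hsq s s.2) fun e => h (Subtype.ext e))).symm
  rw [Finset.sum_congr rfl fun s _ => hval s, Finset.sum_ite, Finset.filter_eq',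
    if_pos (Finset.mem_univ _), Finset.sum_singleton, Finset.sum_const, Finset.filter_ne',
    Finset.card_erase_of_mem (Finset.mem_univ _), Finset.card_univ, ← Nat.card_eq_fintype_card,
    hcard] at hk'
  norm_num at hk'
  linear_combination 8 * hk'

/-- A non-trivial irreducible character is smaller at the involution than at the identity. -/
theorem norm_lt [IsSimpleGroup G] {χ : Cfsg.IrrCharacter G} (hne : χ ≠ irrOne) {n : ℕ}
    (hn : χ.1 1 = n) : ‖χ.1 d.t‖ < n := by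
  obtain ⟨χ, m, ρ, hirr, rfl⟩ := χ
  dsimp only at hn ⊢
  have hdim : Module.finrank ℂ (Fin m → ℂ) = n := by
    rw [ρ.char_one] at hn
    exact_mod_cast hn
  have hle := norm_character_le ρ d.t
  rw [hdim] at hle
  refine lt_of_le_of_ne hle fun he => ?_
  obtain ⟨ω, hω⟩ := (norm_character_eq_iff ρ d.t).mp (by rw [he, hdim])
  set K : Subgroup G := ρ.ker with hK
  have hcomm : ∀ g, d.t * g * d.t⁻¹ * g⁻¹ ∈ K := fun g => by
    show ρ (d.t * g * d.t⁻¹ * g⁻¹) = 1
    have h1 : ρ d.t * ρ g = ρ g * ρ d.t := by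
      rw [hω]; ext v; simp
    rw [map_mul, map_mul, map_mul, h1, mul_assoc (ρ g), ← map_mul, mul_inv_cancel, map_one, mul_one,
      ← map_mul, mul_inv_cancel, map_one]
  rcases IsSimpleGroup.eq_bot_or_eq_top_of_normal K inferInstance with h | h
  · have hc : ∀ g : G, Commute g d.t := fun g => by
      have := hcomm g
      rw [h, mem_bot, mul_inv_eq_one] at this
      exact (mul_inv_eq_iff_eq_mul.mp this).symm
    have hv := hc (d.z)
    apply d.v_ne_t
    rw [← d.z_t, hv.eq, mul_inv_cancel_right]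
  · have hone : ∀ g, ρ g = 1 := fun g => (show g ∈ K by rw [h]; exact mem_top g)
    have hm : (ρ.character : G → ℂ) = fun _ => (n : ℂ) := by
      funext g
      rw [Representation.character, hone, ← map_one ρ]
      exact ρ.char_one.trans (by rw [hdim])
    have hn1 : n = 1 := by
      have hs := classInner_irr_self (G := G) (φ := ρ.character) ⟨m, ρ, hirr, rfl⟩
      rw [classInner_def, hm] at hs
      simp only [map_natCast, Finset.sum_const, Finset.card_univ, nsmul_eq_mul,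
        ← Nat.card_eq_fintype_card] at hs
      have hG : (Nat.card G : ℂ) ≠ 0 := card_ne_zero'
      field_simp at hs
      have : n ^ 2 = 1 := by exact_mod_cast hs
      exact Nat.pow_left_injective two_ne_zero (by simpa using this)
    refine hne (Subtype.ext ?_)
    funext g
    rw [irrOne_apply]
    show ρ.character g = 1
    rw [hm, hn1, Nat.cast_one]

end Data

end CfsgLib.JankoOne
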