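import Mathlib

/-!
# Integer vectors of norm three
-/

set_option autoImplicit false

namespace CfsgLib.JankoOne

variable {ι : Type*} [DecidableEq ι] {J : Finset ι} {f h n : ι → ℤ}

theorem abs_le_one_of_sum_sq {c : ℤ} (hc : c ≤ 3) (hf : ∑ i ∈ J, f i * f i = c) {i : ι}
    (hi : i ∈ J) : f i = 0 ∨ f i = 1 ∨ f i = -1 := by
  have h1 : f i * f i ≤ c :=
    hf ▸ Finset.single_le_sum (fun j _ => mul_self_nonneg (f j)) hi
  have h2 : -1 ≤ f i := by nlinarith
  have h3 : f i ≤ 1 := by nlinarith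
  omega

theorem card_support {c : ℤ} (hc : c ≤ 3) (hf : ∑ i ∈ J, f i * f i = c) :
    ((J.filter fun i => f i ≠ 0).card : ℤ) = c := by
  rw [← hf, Finset.card_filter]
  push_cast
  refine Finset.sum_congr rfl fun i hi => ?_
  rcases abs_le_one_of_sum_sq hc hf hi with e | e | e <;> simp [e]

theorem sum_pair_support (hf : ∑ i ∈ J, f i * f i = 2) :
    ∃ i ∈ J, ∃ j ∈ J, i ≠ j ∧ f i ≠ 0 ∧ f j ≠ 0 ∧ (∀ l ∈ J, f l ≠ 0 → l = i ∨ l = j) ∧
      ∀ φ : ι → ℚ, ∑ l ∈ J, (f l : ℚ) * φ l = f i * φ i + f j * φ j := by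
  have hcard : (J.filter fun i => f i ≠ 0).card = 2 := by
    exact_mod_cast card_support (by norm_num) hf
  obtain ⟨i, j, hij, hS⟩ := Finset.card_eq_two.mp hcard
  have hm : ∀ l, (l ∈ J ∧ f l ≠ 0) ↔ l = i ∨ l = j := fun l => by
    rw [← Finset.mem_filter (p := fun i => f i ≠ 0), hS]
    simp
  refine ⟨i, ((hm i).mpr (Or.inl rfl)).1, j, ((hm j).mpr (Or.inr rfl)).1, hij,
    ((hm i).mpr (Or.inl rfl)).2, ((hm j).mpr (Or.inr rfl)).2, fun l hl hl' => (hm l).mp ⟨hl, hl'⟩,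
    fun φ => ?_⟩
  rw [← Finset.sum_filter_of_ne (p := fun l => f l ≠ 0) (fun l _ hl e => hl (by simp [e])), hS,
    Finset.sum_pair hij]

theorem triple_support (hf : ∑ i ∈ J, f i * f i = 3) {k : ι} (hk : k ∈ J) (hfk : f k ≠ 0) :
    ∃ i ∈ J, ∃ j ∈ J, k ≠ i ∧ k ≠ j ∧ i ≠ j ∧ f i ≠ 0 ∧ f j ≠ 0 ∧
      (∀ l ∈ J, f l ≠ 0 → l = k ∨ l = i ∨ l = j) ∧
      ∀ φ : ι → ℚ, ∑ l ∈ J, (f l : ℚ) * φ l = f k * φ k + f i * φ i + f j * φ j := by
  have hcard : (J.filter fun i => f i ≠ 0).card = 3 := by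
    exact_mod_cast card_support le_rfl hf
  have hkS : k ∈ J.filter fun i => f i ≠ 0 := Finset.mem_filter.mpr ⟨hk, hfk⟩
  obtain ⟨i, j, hij, hS⟩ := Finset.card_eq_two.mp
    (show ((J.filter fun i => f i ≠ 0).erase k).card = 2 by
      rw [Finset.card_erase_of_mem hkS, hcard])
  have hm : ∀ l, (l ≠ k ∧ l ∈ J ∧ f l ≠ 0) ↔ l = i ∨ l = j := fun l => by
    rw [← Finset.mem_filter (p := fun i => f i ≠ 0), ← Finset.mem_erase, hS]
    simp
  refine ⟨i, ((hm i).mpr (Or.inl rfl)).2.1, j, ((hm j).mpr (Or.inr rfl)).2.1,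
    fun e => ((hm i).mpr (Or.inl rfl)).1 e.symm, fun e => ((hm j).mpr (Or.inr rfl)).1 e.symm, hij,
    ((hm i).mpr (Or.inl rfl)).2.2, ((hm j).mpr (Or.inr rfl)).2.2, fun l hl hl' => ?_, fun φ => ?_⟩
  · by_cases e : l = k
    · exact Or.inl e
    · exact Or.inr ((hm l).mp ⟨e, hl, hl'⟩)
  · rw [← Finset.sum_filter_of_ne (p := fun l => f l ≠ 0) (fun l _ hl e => hl (by simp [e])),
      ← Finset.add_sum_erase _ _ hkS, hS, Finset.sum_pair hij, add_assoc]

/-- Two such vectors with product one and equal weighted sums meet in exactly one place, equally. -/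
theorem common (hf : ∑ i ∈ J, f i * f i = 3) (hh : ∑ i ∈ J, h i * h i = 3)
    (hfh : ∑ i ∈ J, f i * h i = 1) (hn : ∀ i ∈ J, 0 < n i)
    (hw : ∑ i ∈ J, f i * n i = ∑ i ∈ J, h i * n i) :
    ∃ k ∈ J, f k ≠ 0 ∧ h k = f k ∧ ∀ l ∈ J, f l ≠ 0 → h l ≠ 0 → l = k := by
  set K := J.filter fun i => f i * h i ≠ 0
  have hKf : K ⊆ J.filter fun i => f i ≠ 0 := fun i hi =>
    Finset.mem_filter.mpr ⟨(Finset.mem_filter.mp hi).1, fun e => (Finset.mem_filter.mp hi).2 (by
      rw [e, zero_mul])⟩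
  have hKh : K ⊆ J.filter fun i => h i ≠ 0 := fun i hi =>
    Finset.mem_filter.mpr ⟨(Finset.mem_filter.mp hi).1, fun e => (Finset.mem_filter.mp hi).2 (by
      rw [e, mul_zero])⟩
  have hcf : (J.filter fun i => f i ≠ 0).card = 3 := by exact_mod_cast card_support le_rfl hf
  have hch : (J.filter fun i => h i ≠ 0).card = 3 := by exact_mod_cast card_support le_rfl hh
  have hK3 : K.card ≤ 3 := hcf ▸ Finset.card_le_card hKf
  have hsum : ∑ i ∈ K, f i * h i = 1 := by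
    rw [← hfh]
    exact Finset.sum_filter_of_ne (fun i _ hi => hi)
  have hval : ∀ i ∈ K, f i * h i = 1 ∨ f i * h i = -1 := by
    intro i hi
    have hiJ := (Finset.mem_filter.mp hi).1
    have hne := (Finset.mem_filter.mp hi).2
    rcases abs_le_one_of_sum_sq le_rfl hf hiJ with e | e | e <;>
      rcases abs_le_one_of_sum_sq le_rfl hh hiJ with e' | e' | e' <;> simp [e, e'] at hne ⊢
  obtain hc | hc | hc | hc : K.card = 0 ∨ K.card = 1 ∨ K.card = 2 ∨ K.card = 3 := by omega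
  · rw [Finset.card_eq_zero.mp hc, Finset.sum_empty] at hsum
    omega
  · obtain ⟨k, hk⟩ := Finset.card_eq_one.mp hc
    have hkK : k ∈ K := hk ▸ Finset.mem_singleton_self k
    rw [hk, Finset.sum_singleton] at hsum
    refine ⟨k, (Finset.mem_filter.mp hkK).1, fun e => by simp [e] at hsum, ?_, fun l hl h1 h2 => ?_⟩
    · rcases Int.eq_one_or_neg_one_of_mul_eq_one hsum with e | e <;> rw [e] at hsum ⊢ <;> omega
    · exact Finset.mem_singleton.mp (hk ▸ Finset.mem_filter.mpr ⟨hl, mul_ne_zero h1 h2⟩)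
  · obtain ⟨a, b, hab, hK⟩ := Finset.card_eq_two.mp hc
    rw [hK, Finset.sum_pair hab] at hsum
    rcases hval a (hK ▸ by simp) with e | e <;> rcases hval b (hK ▸ by simp) with e' | e' <;> omega
  · exfalso
    have e1 : K = J.filter fun i => f i ≠ 0 := Finset.eq_of_subset_of_card_le hKf (by omega)
    have e2 : K = J.filter fun i => h i ≠ 0 := Finset.eq_of_subset_of_card_le hKh (by omega)
    have hwK : ∑ i ∈ K, (f i - h i) * n i = 0 := by
      rw [← sub_eq_zero.mpr hw, ← Finset.sum_sub_distrib]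
      refine Eq.trans ?_ (Finset.sum_congr rfl fun i _ => sub_mul _ _ _)
      refine Finset.sum_subset (Finset.filter_subset _ _) fun i hi hiK => ?_
      have hf0 : f i = 0 := by
        by_contra hne
        exact hiK (e1 ▸ Finset.mem_filter.mpr ⟨hi, hne⟩)
      have hh0 : h i = 0 := by
        by_contra hne
        exact hiK (e2 ▸ Finset.mem_filter.mpr ⟨hi, hne⟩)
      rw [hf0, hh0, sub_self, zero_mul]
    obtain ⟨a, b, c, hab, hac, hbc, hK⟩ := Finset.card_eq_three.mp hc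
    have ha : a ∈ K := hK ▸ by simp
    have hb : b ∈ K := hK ▸ by simp
    have hcK : c ∈ K := hK ▸ by simp
    have three : ∀ φ : ι → ℤ, ∑ i ∈ K, φ i = φ a + φ b + φ c := fun φ => by
      rw [hK, Finset.sum_insert (by simp [hab, hac]), Finset.sum_pair hbc, add_assoc]
    rw [three] at hsum hwK
    have key : ∀ i ∈ K, (f i * h i = 1 ∧ (f i - h i) * n i = 0) ∨
        (f i * h i = -1 ∧ (f i - h i) * n i ≠ 0) := by
      intro i hi
      have hiJ := (Finset.mem_filter.mp hi).1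
      have hne := (Finset.mem_filter.mp hi).2
      have hpos := hn i hiJ
      rcases abs_le_one_of_sum_sq le_rfl hf hiJ with e | e | e <;>
        rcases abs_le_one_of_sum_sq le_rfl hh hiJ with e' | e' | e' <;>
        simp [e, e'] at hne ⊢ <;> omega
    rcases key a ha with ⟨u, u'⟩ | ⟨u, u'⟩ <;> rcases key b hb with ⟨v, v'⟩ | ⟨v, v'⟩ <;>
      rcases key c hcK with ⟨w, w'⟩ | ⟨w, w'⟩ <;> omega

end CfsgLib.JankoOne
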