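import Mathlib.Data.Int.Basic
import Mathlib.Tactic.Ring

/-!
# The finite search in Janko's order computation

`d₁, d₂, d₃` are signed degrees of the three non-trivial characters in the first support, with
values `t₁, t₂, t₃` at the involution; `e₁, e₂` are two of the signed degrees in the second support.
-/

set_option autoImplicit false

namespace CfsgLib.JankoOne

/-- The two equations of the second support, as one test on `e₁`. -/
def innerOk (g c s a b e1 : ℤ) : Bool :=
  let e2 := -1 - c - e1
  decide (g ≤ e1 * e1) || decide (g ≤ e2 * e2) || decide (g % e1 ≠ 0) || decide (g % e2 ≠ 0) ||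
    decide (g * (c * e1 * e2 + s * e1 * e2 + a * c * e2 + b * c * e1) ≠ 86400 * (c * e1 * e2))

/-- All values of `e₁` congruent to `v` modulo `8` whose square is below `2360 ^ 2`. -/
def innerAll (g c s a b v : ℤ) : Bool :=
  (List.range 591).all fun k => innerOk g c s a b (v - 2360 + 8 * (k : ℤ))

/-- The tests on `(d₁, d₂, d₃)`; `second` is the remaining test on the group order. -/
def outerOk (t1 t2 t3 : ℤ) (second : ℤ → ℤ → ℤ → Bool) (d2 d3 : ℤ) : Bool :=
  let d1 := -1 - d2 - d3
  let den := d1 * d2 * d3
  let num := den + t1 * t1 * (d2 * d3) + t2 * t2 * (d1 * d3) + t3 * t3 * (d1 * d2)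
  decide (d1 * d1 ≤ t1 * t1) || decide (d2 * d2 ≤ t2 * t2) || decide (d3 * d3 ≤ t3 * t3) ||
    decide (144000 * den % num ≠ 0) ||
    (let g := 144000 * den / num
    decide (g ≤ 0) || decide (g % 120 ≠ 0) || decide (g / 120 % 2 = 0) ||
      (decide (g / 120 % 3 = 0) && decide (g / 120 % 27 ≠ 0)) ||
      decide (g < 1 + d1 * d1 + d2 * d2 + d3 * d3) ||
      decide (g % d1 ≠ 0) || decide (g % d2 ≠ 0) || decide (g % d3 ≠ 0) ||
      decide (g = 175560) || (decide (g < 5569600) && second g d1 d2))

/-- The second test when one character lies in all three supports. -/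
def secondOne (g d1 _d2 : ℤ) : Bool := innerAll g d1 1 25 25 3

/-- The second test when the three pairs of supports meet in three different characters. -/
def secondThree (g _d1 d2 : ℤ) : Bool := innerAll g d2 4 4 25 6

/-- One row of the search. -/
def rowOk (t1 t2 t3 v2 v3 : ℤ) (second : ℤ → ℤ → ℤ → Bool) (i : ℕ) : Bool :=
  (List.range 251).all fun j =>
    outerOk t1 t2 t3 second (v2 - 1000 + 8 * (i : ℤ)) (v3 - 1000 + 8 * (j : ℤ))

theorem checkOne :
    ((List.range 251).all fun i => rowOk 1 3 3 3 3 secondOne i) = true := by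
  decide +kernel

theorem checkThree :
    ((List.range 251).all fun i => rowOk 6 (-2) 3 6 3 secondThree i) = true := by
  decide +kernel

end CfsgLib.JankoOne
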