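import Mathlib
import Cfsg.Agent.Lib.JankoOne.Check

/-!
# The arithmetic in Janko's order computation
-/

set_option autoImplicit false

namespace CfsgLib.JankoOne

theorem abs_div_le_of_abs_ge {a n : ℚ} (ha : 0 ≤ a) (hn : 0 < n) {d : ℤ} (hd : n ≤ |(d : ℚ)|) :
    |a / (d : ℚ)| ≤ a / n := by
  rw [abs_div, abs_of_nonneg ha]
  exact div_le_div_of_nonneg_left ha hn hd

theorem neg_le_div_of_le {a n : ℚ} (ha : 0 ≤ a) (hn : 0 < n) {d : ℤ}
    (hd : (d : ℚ) ≤ -n ∨ 0 < d) : -(a / n) ≤ a / (d : ℚ) := by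
  rcases hd with h | h
  · rw [show a / (d : ℚ) = -(a / -(d : ℚ)) by rw [div_neg, neg_neg], neg_le_neg_iff]
    exact div_le_div_of_nonneg_left ha hn (by linarith)
  · have h1 : (0 : ℚ) < d := by exact_mod_cast h
    have h2 : 0 ≤ a / (d : ℚ) := div_nonneg ha h1.le
    have h3 : 0 ≤ a / n := div_nonneg ha hn.le
    linarith

theorem div_le_neg_of_le {a n : ℚ} (ha : 0 ≤ a) {d : ℤ}
    (hd : -n ≤ (d : ℚ)) (hd0 : d < 0) : a / (d : ℚ) ≤ -(a / n) := by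
  have h1 : (d : ℚ) < 0 := by exact_mod_cast hd0
  rw [show a / (d : ℚ) = -(a / -(d : ℚ)) by rw [div_neg, neg_neg], neg_le_neg_iff]
  exact div_le_div_of_nonneg_left ha (by linarith) (by linarith)

/-- Three signed degrees with sum `-1` are small, if each leaves `1 + ∑ tᵢ ^ 2 / dᵢ` outside
`(0, 144000 / 1250000]` when the two others are large. -/
theorem abs_le_thousand {g : ℕ} {t1 t2 t3 d1 d2 d3 : ℤ} (hs : d1 + d2 + d3 = -1)
    (hsq : 1 + d1 * d1 + d2 * d2 + d3 * d3 ≤ (g : ℤ))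
    (heq : (g : ℚ) * (1 + (t1 * t1 : ℤ) / (d1 : ℚ) + (t2 * t2 : ℤ) / (d2 : ℚ) +
      (t3 * t3 : ℤ) / (d3 : ℚ)) = 144000)
    (h1 : 1 + ((t1 * t1 : ℤ) : ℚ) / d1 + ((t2 * t2 + t3 * t3 : ℤ) : ℚ) / 500 ≤ 0 ∨
      144000 / 1250000 ≤ 1 + ((t1 * t1 : ℤ) : ℚ) / d1 - ((t2 * t2 + t3 * t3 : ℤ) : ℚ) / 500)
    (h2 : 1 + ((t2 * t2 : ℤ) : ℚ) / d2 + ((t1 * t1 + t3 * t3 : ℤ) : ℚ) / 500 ≤ 0 ∨
      144000 / 1250000 ≤ 1 + ((t2 * t2 : ℤ) : ℚ) / d2 - ((t1 * t1 + t3 * t3 : ℤ) : ℚ) / 500)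
    (h3 : 1 + ((t3 * t3 : ℤ) : ℚ) / d3 + ((t1 * t1 + t2 * t2 : ℤ) : ℚ) / 500 ≤ 0 ∨
      144000 / 1250000 ≤ 1 + ((t3 * t3 : ℤ) : ℚ) / d3 - ((t1 * t1 + t2 * t2 : ℤ) : ℚ) / 500) :
    |d1| ≤ 1000 ∧ |d2| ≤ 1000 ∧ |d3| ≤ 1000 := by
  by_contra hne
  have hbig : 1250000 < (g : ℤ) ∧ ((500 ≤ |d1| ∧ 500 ≤ |d2|) ∨ (500 ≤ |d1| ∧ 500 ≤ |d3|) ∨
      (500 ≤ |d2| ∧ 500 ≤ |d3|)) := by
    have a1 := abs_mul_abs_self d1
    have a2 := abs_mul_abs_self d2
    have a3 := abs_mul_abs_self d3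
    have hd : (500 ≤ |d1| ∧ 500 ≤ |d2|) ∨ (500 ≤ |d1| ∧ 500 ≤ |d3|) ∨
        (500 ≤ |d2| ∧ 500 ≤ |d3|) := by
      rcases abs_cases d1 with h | h <;> rcases abs_cases d2 with h' | h' <;>
        rcases abs_cases d3 with h'' | h'' <;> omega
    refine ⟨?_, hd⟩
    have hm : 1001 ≤ |d1| ∨ 1001 ≤ |d2| ∨ 1001 ≤ |d3| := by omega
    rcases hm with h | h | h <;> rcases hd with ⟨u, v⟩ | ⟨u, v⟩ | ⟨u, v⟩ <;>
      nlinarith [abs_nonneg d1, abs_nonneg d2, abs_nonneg d3, mul_self_nonneg d1,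
        mul_self_nonneg d2, mul_self_nonneg d3]
  obtain ⟨hg, hd⟩ := hbig
  have hgq : (1250000 : ℚ) < g := by exact_mod_cast hg
  generalize hS : 1 + ((t1 * t1 : ℤ) : ℚ) / (d1 : ℚ) + ((t2 * t2 : ℤ) : ℚ) / (d2 : ℚ) +
    ((t3 * t3 : ℤ) : ℚ) / (d3 : ℚ) = S at heq
  have hS0 : 0 < S := by
    by_contra h
    nlinarith
  have hS1 : S < 144000 / 1250000 := by
    by_contra h
    nlinarith
  have hb : ∀ (t d : ℤ), 500 ≤ |d| → |((t * t : ℤ) : ℚ) / (d : ℚ)| ≤ ((t * t : ℤ) : ℚ) / 500 :=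
    fun t d hd => abs_div_le_of_abs_ge (by exact_mod_cast mul_self_nonneg t) (by norm_num)
      (by exact_mod_cast hd)
  rcases hd with ⟨u, v⟩ | ⟨u, v⟩ | ⟨u, v⟩
  · have := abs_le.mp (hb t1 d1 u); have := abs_le.mp (hb t2 d2 v)
    push_cast at *
    rcases h3 with h | h <;> linarith
  · have := abs_le.mp (hb t1 d1 u); have := abs_le.mp (hb t3 d3 v)
    push_cast at *
    rcases h2 with h | h <;> linarith
  · have := abs_le.mp (hb t2 d2 u); have := abs_le.mp (hb t3 d3 v)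
    push_cast at *
    rcases h1 with h | h <;> linarith

/-- The equation of a support with the value `a` at `x`, cleared of denominators. -/
theorem eq_mul_of_div_eq {g K a1 a2 a3 d1 d2 d3 : ℤ} (h1 : d1 ≠ 0) (h2 : d2 ≠ 0) (h3 : d3 ≠ 0)
    (h : (g : ℚ) * (1 + (a1 : ℚ) / d1 + (a2 : ℚ) / d2 + (a3 : ℚ) / d3) = K) :
    g * (d1 * d2 * d3 + a1 * (d2 * d3) + a2 * (d1 * d3) + a3 * (d1 * d2)) = K * (d1 * d2 * d3) := by
  have q1 : (d1 : ℚ) ≠ 0 := by exact_mod_cast h1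
  have q2 : (d2 : ℚ) ≠ 0 := by exact_mod_cast h2
  have q3 : (d3 : ℚ) ≠ 0 := by exact_mod_cast h3
  have h' : (g : ℚ) * (d1 * d2 * d3 + a1 * (d2 * d3) + a2 * (d1 * d3) + a3 * (d1 * d2)) =
      K * (d1 * d2 * d3) := by
    rw [← h]
    field_simp
  exact_mod_cast h'

theorem abs_lt_of_mul_self_lt {e g : ℤ} (h : e * e < g) (hg : g < 5569600) : |e| < 2360 := by
  have h1 : |e| * |e| < 2360 * 2360 := by rw [abs_mul_abs_self]; omega
  nlinarith [abs_nonneg e]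

theorem eq_175560_aux {m : ℕ} (hodd : m % 2 = 1) (h3 : 3 ∣ m → 27 ∣ m)
    {t1 t2 t3 v2 v3 c s a b v : ℤ} {second : ℤ → ℤ → ℤ → Bool}
    (hcheck : ((List.range 251).all fun i => rowOk t1 t2 t3 v2 v3 second i) = true)
    {d1 d2 d3 : ℤ} (hv2 : (d2 - v2) % 8 = 0) (hv3 : (d3 - v3) % 8 = 0)
    (hr2 : 0 ≤ v2 ∧ v2 < 8) (hr3 : 0 ≤ v3 ∧ v3 < 8) (hrv : 0 ≤ v ∧ v < 8)
    (hb2 : |d2| ≤ 1000) (hb3 : |d3| ≤ 1000)
    (hsec : second (120 * m : ℕ) d1 d2 = innerAll (120 * m : ℕ) c s a b v)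
    (ht1 : t1 * t1 < d1 * d1) (ht2 : t2 * t2 < d2 * d2) (ht3 : t3 * t3 < d3 * d3)
    (hs : d1 + d2 + d3 = -1) (hsq : 1 + d1 * d1 + d2 * d2 + d3 * d3 ≤ ((120 * m : ℕ) : ℤ))
    (hdv1 : d1 ∣ ((120 * m : ℕ) : ℤ)) (hdv2 : d2 ∣ ((120 * m : ℕ) : ℤ))
    (hdv3 : d3 ∣ ((120 * m : ℕ) : ℤ))
    (heq : ((120 * m : ℕ) : ℤ) * (d1 * d2 * d3 + t1 * t1 * (d2 * d3) + t2 * t2 * (d1 * d3) +
      t3 * t3 * (d1 * d2)) = 144000 * (d1 * d2 * d3))
    {e1 : ℤ} (hve : (e1 - v) % 8 = 0) (hse : e1 * e1 < ((120 * m : ℕ) : ℤ))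
    (hse2 : (-1 - c - e1) * (-1 - c - e1) < ((120 * m : ℕ) : ℤ))
    (hde : e1 ∣ ((120 * m : ℕ) : ℤ)) (hde2 : -1 - c - e1 ∣ ((120 * m : ℕ) : ℤ))
    (heqe : ((120 * m : ℕ) : ℤ) * (c * e1 * (-1 - c - e1) + s * e1 * (-1 - c - e1) +
      a * c * (-1 - c - e1) + b * c * e1) = 86400 * (c * e1 * (-1 - c - e1))) :
    120 * m = 175560 := by
  have hb2' := abs_le.mp hb2
  have hb3' := abs_le.mp hb3
  obtain ⟨i, hi, hi'⟩ : ∃ i : ℕ, i < 251 ∧ d2 = v2 - 1000 + 8 * (i : ℤ) :=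
    ⟨((d2 - v2 + 1000) / 8).toNat, by omega, by omega⟩
  obtain ⟨j, hj, hj'⟩ : ∃ j : ℕ, j < 251 ∧ d3 = v3 - 1000 + 8 * (j : ℤ) :=
    ⟨((d3 - v3 + 1000) / 8).toNat, by omega, by omega⟩
  have hrow := List.all_eq_true.mp hcheck i (List.mem_range.mpr hi)
  have hok := List.all_eq_true.mp (show ((List.range 251).all fun j => outerOk t1 t2 t3 second
    (v2 - 1000 + 8 * (i : ℤ)) (v3 - 1000 + 8 * (j : ℤ))) = true from hrow) j
    (List.mem_range.mpr hj)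
  rw [← hi', ← hj'] at hok
  have hd1 : -1 - d2 - d3 = d1 := by omega
  simp only [outerOk, hd1] at hok
  set g : ℤ := ((120 * m : ℕ) : ℤ) with hgdef
  set den := d1 * d2 * d3 with hden
  set num := den + t1 * t1 * (d2 * d3) + t2 * t2 * (d1 * d3) + t3 * t3 * (d1 * d2) with hnum
  have hd0 : den ≠ 0 := by
    have n1 : d1 ≠ 0 := fun h => by subst h; nlinarith
    have n2 : d2 ≠ 0 := fun h => by subst h; nlinarith
    have n3 : d3 ≠ 0 := fun h => by subst h; nlinarith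
    exact mul_ne_zero (mul_ne_zero n1 n2) n3
  have hn0 : num ≠ 0 := fun h => by rw [h, mul_zero] at heq; omega
  have hdiv : 144000 * den / num = g := by
    rw [← heq, Int.mul_ediv_cancel _ hn0]
  have hmod : 144000 * den % num = 0 := by
    rw [← heq, Int.mul_emod_left]
  simp only [hdiv, hmod, Bool.or_eq_true, Bool.and_eq_true, decide_eq_true_eq] at hok
  have hg120 : g % 120 = 0 ∧ g / 120 % 2 ≠ 0 ∧ ¬ (g / 120 % 3 = 0 ∧ g / 120 % 27 ≠ 0) ∧ 0 < g := by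
    rw [hgdef]
    refine ⟨by omega, by omega, ?_, by omega⟩
    rintro ⟨hm3, hm27⟩
    have h27 := h3 (by omega)
    omega
  have m1 := Int.emod_eq_zero_of_dvd hdv1
  have m2 := Int.emod_eq_zero_of_dvd hdv2
  have m3 := Int.emod_eq_zero_of_dvd hdv3
  by_contra hne
  have hsec' : g < 5569600 ∧ second g d1 d2 = true := by
    obtain ⟨g1, g2, g3, g4⟩ := hg120
    rcases hok with (((h | h) | h) | h) |
      (((((((((h | h) | h) | h) | h) | h) | h) | h) | h) | h)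
    · omega
    · omega
    · omega
    · exact absurd rfl h
    · omega
    · exact absurd g1 h
    · exact absurd h g2
    · exact absurd h g3
    · omega
    · exact absurd m1 h
    · exact absurd m2 h
    · exact absurd m3 h
    · rw [hgdef] at h; omega
    · exact h
  obtain ⟨hg, hin⟩ := hsec'
  rw [hsec] at hin
  have he : |e1| < 2360 := abs_lt_of_mul_self_lt hse hg
  have he' := abs_lt.mp he
  obtain ⟨k, hk, hk'⟩ : ∃ k : ℕ, k < 591 ∧ e1 = v - 2360 + 8 * (k : ℤ) :=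
    ⟨((e1 - v + 2360) / 8).toNat, by omega, by omega⟩
  have hin' := List.all_eq_true.mp (show ((List.range 591).all fun k =>
    innerOk g c s a b (v - 2360 + 8 * (k : ℤ))) = true from hin) k (List.mem_range.mpr hk)
  rw [← hk'] at hin'
  have me1 := Int.emod_eq_zero_of_dvd hde
  have me2 := Int.emod_eq_zero_of_dvd hde2
  simp only [innerOk, Bool.or_eq_true, decide_eq_true_eq] at hin'
  rcases hin' with (((h | h) | h) | h) | h
  · omega
  · omega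
  · exact h me1
  · exact h me2
  · exact h heqe

/-- The case of one character common to the three supports. -/
theorem order_one {m : ℕ} (hodd : m % 2 = 1) (h3 : 3 ∣ m → 27 ∣ m) {d1 d2 d3 e1 e2 : ℤ}
    (r1 : (d1 - 1) % 8 = 0) (r2 : (d2 - 3) % 8 = 0) (r3 : (d3 - 3) % 8 = 0)
    (ht1 : 1 < d1 * d1) (ht2 : 9 < d2 * d2) (ht3 : 9 < d3 * d3)
    (hs : d1 + d2 + d3 = -1) (hsq : 1 + d1 * d1 + d2 * d2 + d3 * d3 ≤ ((120 * m : ℕ) : ℤ))
    (hv1 : d1 ∣ ((120 * m : ℕ) : ℤ)) (hv2 : d2 ∣ ((120 * m : ℕ) : ℤ))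
    (hv3 : d3 ∣ ((120 * m : ℕ) : ℤ))
    (heq : ((120 * m : ℕ) : ℚ) * (1 + 1 / (d1 : ℚ) + 9 / (d2 : ℚ) + 9 / (d3 : ℚ)) = 144000)
    (re : (e1 - 3) % 8 = 0) (hse : e1 * e1 < ((120 * m : ℕ) : ℤ))
    (hse2 : e2 * e2 < ((120 * m : ℕ) : ℤ)) (hne : e1 ≠ 0) (hne2 : e2 ≠ 0)
    (hve : e1 ∣ ((120 * m : ℕ) : ℤ)) (hve2 : e2 ∣ ((120 * m : ℕ) : ℤ))
    (hse' : d1 + e1 + e2 = -1)
    (heqe : ((120 * m : ℕ) : ℚ) * (1 + 1 / (d1 : ℚ) + 25 / (e1 : ℚ) + 25 / (e2 : ℚ)) = 86400) :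
    120 * m = 175560 := by
  have n1 : d1 ≠ 0 := fun h => by subst h; norm_num at ht1
  have n2 : d2 ≠ 0 := fun h => by subst h; norm_num at ht2
  have n3 : d3 ≠ 0 := fun h => by subst h; norm_num at ht3
  have b3 : ∀ d : ℤ, (d - 3) % 8 = 0 → 9 < d * d →
      1 + (9 : ℚ) / d + 10 / 500 ≤ 0 ∨ 144000 / 1250000 ≤ 1 + (9 : ℚ) / d - 10 / 500 := by
    intro d hd hd'
    by_cases h : d = -5
    · subst h; left; norm_num
    · right
      have := neg_le_div_of_le (a := 9) (n := 13) (by norm_num) (by norm_num) (d := d) (by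
        by_cases h0 : 0 < d
        · exact Or.inr h0
        · left
          have : d ≤ -13 := by omega
          exact_mod_cast this)
      linarith
  obtain ⟨-, hb2, hb3⟩ := abs_le_thousand (t1 := 1) (t2 := 3) (t3 := 3) hs hsq
    (by push_cast at heq ⊢; norm_num at heq ⊢; linarith)
    (by
      right
      have := neg_le_div_of_le (a := 1) (n := 7) (by norm_num) (by norm_num) (d := d1) (by
        by_cases h0 : 0 < d1
        · exact Or.inr h0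
        · left
          have h1 : d1 ≠ 0 := n1
          have : d1 ≤ -7 := by omega
          exact_mod_cast this)
      push_cast
      linarith)
    (by have := b3 d2 r2 ht2; push_cast; norm_num at this ⊢; exact this)
    (by have := b3 d3 r3 ht3; push_cast; norm_num at this ⊢; exact this)
  have e2eq : -1 - d1 - e1 = e2 := by omega
  refine eq_175560_aux hodd h3 (c := d1) (s := 1) (a := 25) (b := 25) (v := 3) checkOne r2 r3
    (by norm_num) (by norm_num) (by norm_num) hb2 hb3 rfl (by simpa using ht1) (by simpa using ht2)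
    (by simpa using ht3) hs hsq hv1 hv2 hv3 ?_ re hse (by rwa [e2eq]) hve (by rwa [e2eq]) ?_
  · exact eq_mul_of_div_eq n1 n2 n3 (by push_cast at heq ⊢; norm_num at heq ⊢; exact heq)
  · rw [e2eq]
    have := eq_mul_of_div_eq (g := ((120 * m : ℕ) : ℤ)) (K := 86400) (a1 := 1) (a2 := 25)
      (a3 := 25) n1 hne hne2 (by push_cast at heqe ⊢; exact heqe)
    linear_combination this

/-- The case of three different common characters. -/
theorem order_three {m : ℕ} (hodd : m % 2 = 1) (h3 : 3 ∣ m → 27 ∣ m) {d1 d2 d3 e1 e2 : ℤ}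
    (r1 : (d1 - 6) % 8 = 0) (r2 : (d2 - 6) % 8 = 0) (r3 : (d3 - 3) % 8 = 0)
    (ht1 : 36 < d1 * d1) (ht2 : 4 < d2 * d2) (ht3 : 9 < d3 * d3)
    (hs : d1 + d2 + d3 = -1) (hsq : 1 + d1 * d1 + d2 * d2 + d3 * d3 ≤ ((120 * m : ℕ) : ℤ))
    (hv1 : d1 ∣ ((120 * m : ℕ) : ℤ)) (hv2 : d2 ∣ ((120 * m : ℕ) : ℤ))
    (hv3 : d3 ∣ ((120 * m : ℕ) : ℤ))
    (heq : ((120 * m : ℕ) : ℚ) * (1 + 36 / (d1 : ℚ) + 4 / (d2 : ℚ) + 9 / (d3 : ℚ)) = 144000)
    (re : (e1 - 6) % 8 = 0) (hse : e1 * e1 < ((120 * m : ℕ) : ℤ))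
    (hse2 : e2 * e2 < ((120 * m : ℕ) : ℤ)) (hne : e1 ≠ 0) (hne2 : e2 ≠ 0)
    (hve : e1 ∣ ((120 * m : ℕ) : ℤ)) (hve2 : e2 ∣ ((120 * m : ℕ) : ℤ))
    (hse' : d2 + e1 + e2 = -1)
    (heqe : ((120 * m : ℕ) : ℚ) * (1 + 4 / (d2 : ℚ) + 4 / (e1 : ℚ) + 25 / (e2 : ℚ)) = 86400) :
    120 * m = 175560 := by
  have n1 : d1 ≠ 0 := fun h => by subst h; norm_num at ht1
  have n2 : d2 ≠ 0 := fun h => by subst h; norm_num at ht2
  have n3 : d3 ≠ 0 := fun h => by subst h; norm_num at ht3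
  obtain ⟨-, hb2, hb3⟩ := abs_le_thousand (t1 := 6) (t2 := -2) (t3 := 3) hs hsq
    (by push_cast at heq ⊢; norm_num; linarith)
    (by
      by_cases h : -34 ≤ d1 ∧ d1 < 0
      · left
        have := div_le_neg_of_le (a := 36) (n := 34) (by norm_num) (d := d1)
          (by exact_mod_cast h.1) h.2
        push_cast
        linarith
      · right
        have := neg_le_div_of_le (a := 36) (n := 42) (by norm_num) (by norm_num) (d := d1) (by
          by_cases h0 : 0 < d1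
          · exact Or.inr h0
          · left
            have : d1 ≤ -42 := by omega
            exact_mod_cast this)
        push_cast
        linarith)
    (by
      right
      have := neg_le_div_of_le (a := 4) (n := 10) (by norm_num) (by norm_num) (d := d2) (by
        by_cases h0 : 0 < d2
        · exact Or.inr h0
        · left
          have h1 : d2 ≠ -2 := fun h => by subst h; norm_num at ht2
          have : d2 ≤ -10 := by omega
          exact_mod_cast this)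
      push_cast
      linarith)
    (by
      by_cases h : d3 = -5
      · subst h; left; norm_num
      · right
        have := neg_le_div_of_le (a := 9) (n := 13) (by norm_num) (by norm_num) (d := d3) (by
          by_cases h0 : 0 < d3
          · exact Or.inr h0
          · left
            have : d3 ≤ -13 := by omega
            exact_mod_cast this)
        push_cast
        linarith)
  have e2eq : -1 - d2 - e1 = e2 := by omega
  refine eq_175560_aux hodd h3 (c := d2) (s := 4) (a := 4) (b := 25) (v := 6) checkThree r2 r3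
    (by norm_num) (by norm_num) (by norm_num) hb2 hb3 rfl (by simpa using ht1) (by simpa using ht2)
    (by simpa using ht3) hs hsq hv1 hv2 hv3 ?_ re hse (by rwa [e2eq]) hve (by rwa [e2eq]) ?_
  · exact eq_mul_of_div_eq n1 n2 n3 (by push_cast at heq ⊢; norm_num; exact heq)
  · rw [e2eq]
    have := eq_mul_of_div_eq (g := ((120 * m : ℕ) : ℤ)) (K := 86400) (a1 := 4) (a2 := 4)
      (a3 := 25) n2 hne hne2 (by push_cast at heqe ⊢; exact heqe)
    linear_combination this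

end CfsgLib.JankoOne
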