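import Mathlib
import Cfsg.Agent.Lib.JankoOne.Frame
import Cfsg.Agent.Lib.Cores.BrauerWielandt

/-!
# The three-local analysis: `9 ∣ |G|` forces `81 ∣ |G|`
-/

set_option autoImplicit false

open Subgroup

namespace CfsgLib.JankoOne

theorem exists_oddPart {G : Type*} [Group G] [Finite G] {t : G} (ht : t * t = 1) (ht1 : t ≠ 1)
    {H : Subgroup G} (htH : t ∈ H) (h4 : ¬4 ∣ Nat.card H) :
    ∃ O : Subgroup G, (∀ w, w ∈ O ↔ w ∈ H ∧ Odd (orderOf w)) ∧ Nat.card H = 2 * Nat.card O ∧
      Odd (Nat.card O) := by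
  haveI : Fact (Nat.Prime 2) := ⟨Nat.prime_two⟩
  set th : H := ⟨t, htH⟩
  have hth : th * th = 1 := Subtype.ext ht
  have hth1 : th ≠ 1 := fun h => ht1 (congrArg Subtype.val h)
  have hcard : Nat.card (zpowers th) = 2 := by
    rw [Nat.card_zpowers, orderOf_eq_prime (by rw [sq, hth]) hth1]
  have hfac : (Nat.card H).factorization 2 = 1 := by
    have h2 : 2 ∣ Nat.card H := hcard ▸ card_subgroup_dvd_card _
    have h1 : 1 ≤ (Nat.card H).factorization 2 :=
      (Nat.prime_two.dvd_iff_one_le_factorization Nat.card_pos.ne').mp h2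
    have h3 : (Nat.card H).factorization 2 < 2 := by
      by_contra hlt
      exact h4 ((Nat.Prime.pow_dvd_iff_le_factorization (p := 2) (k := 2) Nat.prime_two
        Nat.card_pos.ne').mpr (by omega))
    omega
  let P : Sylow 2 H := Sylow.ofCard (zpowers th) (by rw [hcard, hfac, pow_one])
  have hP : (P : Subgroup H) = zpowers th := Sylow.coe_ofCard _ _
  have hNC : normalizer ((P : Subgroup H) : Set H) ≤ centralizer ((P : Subgroup H) : Set H) := by
    intro n hn
    rw [mem_centralizer_iff]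
    have hcomm : n * th = th * n := by
      have h1 : n * th * n⁻¹ ∈ (P : Subgroup H) :=
        (mem_normalizer_iff.mp hn th).mp (hP ▸ mem_zpowers th)
      rw [hP] at h1
      obtain ⟨i, hi⟩ := mem_zpowers_iff.mp h1
      rcases Int.even_or_odd i with ⟨j, rfl⟩ | ⟨j, rfl⟩
      · rw [← two_mul, zpow_mul, zpow_two, hth, one_zpow] at hi
        exact absurd (conj_eq_one_iff.mp hi.symm) hth1
      · rw [zpow_add, zpow_mul, zpow_two, hth, one_zpow, one_mul, zpow_one] at hi
        exact eq_mul_inv_iff_mul_eq.mp hi |>.symm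
    intro w hw
    rw [SetLike.mem_coe, hP] at hw
    obtain ⟨i, rfl⟩ := mem_zpowers_iff.mp hw
    exact ((Commute.zpow_right hcomm i).eq).symm
  set f := MonoidHom.transferSylow P hNC
  have hcomp : f.ker.IsComplement' (P : Subgroup H) :=
    MonoidHom.ker_transferSylow_isComplement' P hNC
  have hodd : Odd (Nat.card f.ker) := by
    rw [Nat.odd_iff]
    by_contra h
    exact (show ¬2 ∣ Nat.card f.ker from MonoidHom.not_dvd_card_ker_transferSylow P hNC)
      (Nat.dvd_of_mod_eq_zero (by omega))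
  have hmul : Nat.card H = 2 * Nat.card f.ker := by
    have hPc : Nat.card (P : Subgroup H) = 2 := by rw [hP]; exact hcard
    rw [← hcomp.card_mul_card, hPc, mul_comm]
  have hidx : f.ker.index = 2 := by
    have := f.ker.card_mul_index
    rw [hmul, mul_comm 2] at this
    exact Nat.eq_of_mul_eq_mul_left Nat.card_pos this
  refine ⟨f.ker.map H.subtype, fun w => ⟨?_, ?_⟩, ?_, ?_⟩
  · rintro ⟨u, hu, rfl⟩
    refine ⟨u.2, hodd.of_dvd_nat ?_⟩
    rw [H.coe_subtype, orderOf_coe]
    exact f.ker.orderOf_dvd_natCard hu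
  · rintro ⟨hw, ho⟩
    refine ⟨⟨w, hw⟩, ?_, rfl⟩
    have h2 : (⟨w, hw⟩ : H) ^ 2 ∈ f.ker := by
      have := Subgroup.pow_mem_of_index_ne_zero_of_dvd (H := f.ker) (by rw [hidx]; norm_num)
      exact Subgroup.sq_mem_of_index_two hidx _
    obtain ⟨k, hk⟩ := ho
    have e : (⟨w, hw⟩ : H) = (((⟨w, hw⟩ : H) ^ 2) ^ (k + 1)) := by
      apply Subtype.ext
      rw [SubgroupClass.coe_pow, SubgroupClass.coe_pow, ← pow_mul,
        show 2 * (k + 1) = orderOf w + 1 by omega, pow_succ, pow_orderOf_eq_one, one_mul]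
    rw [e]
    exact pow_mem h2 _
  · rw [card_map_of_injective H.subtype_injective, hmul]
  · rwa [card_map_of_injective H.subtype_injective]

theorem commutator_mem_of_card {G : Type*} [Group G] [Finite G] {K : Subgroup G}
    (hK : Nat.card K = 27) {c : G} (hcK : c ∈ K) (hc1 : c ≠ 1) (hc : ∀ w ∈ K, w * c = c * w)
    (hnc : ¬∀ a ∈ K, ∀ b ∈ K, a * b = b * a) {g h : G} (hg : g ∈ K) (hh : h ∈ K) :
    g * h * g⁻¹ * h⁻¹ ∈ zpowers c := by
  haveI : Fact (Nat.Prime 3) := ⟨Nat.prime_three⟩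
  set cK : K := ⟨c, hcK⟩
  have hcZ : cK ∈ center K := mem_center_iff.mpr fun w => Subtype.ext (hc w w.2)
  have hcK1 : cK ≠ 1 := fun e => hc1 (congrArg Subtype.val e)
  have hdvd : Nat.card (center K) ∣ 3 ^ 3 := by
    have := card_subgroup_dvd_card (center K)
    rw [hK] at this
    norm_num
    exact this
  obtain ⟨n, hn, hnc'⟩ := (Nat.dvd_prime_pow Nat.prime_three).mp hdvd
  have hmul : Nat.card (center K) * Nat.card (K ⧸ center K) = 27 := by
    rw [mul_comm, ← card_eq_card_quotient_mul_card_subgroup, hK]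
  have hn2 : n < 2 := by
    by_contra hlt
    apply hnc
    have hcyc : IsCyclic (K ⧸ center K) := by
      interval_cases n
      · exact isCyclic_of_prime_card (p := 3) (by rw [hnc'] at hmul; omega)
      · have h1 : Nat.card (K ⧸ center K) = 1 := by rw [hnc'] at hmul; omega
        haveI := (Nat.card_eq_one_iff_unique.mp h1).1
        infer_instance
    intro a ha b hb
    have := commutative_of_cyclic_center_quotient (QuotientGroup.mk' (center K))
      (by rw [QuotientGroup.ker_mk']) ⟨a, ha⟩ ⟨b, hb⟩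
    exact congrArg Subtype.val this
  have hZ : center K = zpowers cK := by
    have h1 : orderOf cK ∣ Nat.card (center K) := Subgroup.orderOf_dvd_natCard _ hcZ
    have h2 : orderOf cK ≠ 1 := fun e => hcK1 (orderOf_eq_one_iff.mp e)
    rw [hnc'] at h1
    interval_cases n
    · exact absurd (Nat.dvd_one.mp (by simpa using h1)) h2
    · have h3 : orderOf cK = 3 :=
        ((Nat.dvd_prime Nat.prime_three).mp (by simpa using h1)).resolve_left h2
      exact (eq_of_le_of_card_ge (zpowers_le.mpr hcZ)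
        (by rw [Nat.card_zpowers, h3, hnc', pow_one])).symm
  have hq : Nat.card (K ⧸ center K) = 3 ^ 2 := by
    rw [hZ, Nat.card_zpowers] at hmul
    have h3 : orderOf cK = 3 := by
      have h1 : orderOf cK ∣ Nat.card (center K) := Subgroup.orderOf_dvd_natCard _ hcZ
      rw [hnc'] at h1
      interval_cases n
      · exact absurd (orderOf_eq_one_iff.mp (Nat.dvd_one.mp (by simpa using h1))) hcK1
      · exact ((Nat.dvd_prime Nat.prime_three).mp (by simpa using h1)).resolve_left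
          fun e => hcK1 (orderOf_eq_one_iff.mp e)
    rw [h3] at hmul
    rw [hZ]
    omega
  have hab := IsPGroup.commutative_of_card_eq_prime_sq hq
    (QuotientGroup.mk (⟨g, hg⟩ : K)) (QuotientGroup.mk (⟨h, hh⟩ : K))
  have hmem : (⟨g, hg⟩ : K) * ⟨h, hh⟩ * (⟨g, hg⟩ : K)⁻¹ * (⟨h, hh⟩ : K)⁻¹ ∈ center K := by
    rw [← QuotientGroup.eq_one_iff]
    simp only [QuotientGroup.mk_mul, QuotientGroup.mk_inv]
    rw [hab, mul_inv_cancel_right, mul_inv_cancel]
  rw [hZ, mem_zpowers_iff] at hmem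
  obtain ⟨i, hi⟩ := hmem
  exact mem_zpowers_iff.mpr ⟨i, congrArg Subtype.val hi⟩

theorem mem_zpowers_three {G : Type*} [Group G] [Finite G] {c w : G} (hc : c ^ 3 = 1)
    (hw : w ∈ zpowers c) : w = 1 ∨ w = c ∨ w = c⁻¹ := by
  obtain ⟨i, hi⟩ := Submonoid.mem_powers_iff _ _ |>.mp (mem_powers_iff_mem_zpowers.mpr hw)
  have hcc : c ^ 2 = c⁻¹ := eq_inv_of_mul_eq_one_left (by rw [← pow_succ, hc])
  rw [← Nat.mod_add_div i 3, pow_add, pow_mul, hc, one_pow, mul_one] at hi
  have : i % 3 < 3 := Nat.mod_lt _ (by norm_num)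
  interval_cases h : i % 3
  · exact Or.inl (by rw [← hi, pow_zero])
  · exact Or.inr (Or.inl (by rw [← hi, pow_one]))
  · exact Or.inr (Or.inr (by rw [← hi, hcc]))

namespace Data

variable {G : Type*} [Group G] [Finite G] (d : Data G)

/-- Odd subgroups of an involution centraliser have order one, three or five. -/
theorem card_odd_subgroup {K : Subgroup G} (hK : Odd (Nat.card K)) {a g : G}
    (hg : g * a * g⁻¹ = d.t) (hc : ∀ w ∈ K, Commute w a) :
    Nat.card K = 1 ∨ Nat.card K = 3 ∨ Nat.card K = 5 := by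
  set K' := K.map (MulAut.conj g).toMonoidHom with hK'
  have hcard : Nat.card K' = Nat.card K := card_map_of_injective (MulAut.conj g).injective
  have hle : K' ≤ Subgroup.centralizer ({d.t} : Set G) := by
    rintro _ ⟨w, hw, rfl⟩
    refine mem_centralizer_singleton_iff.mpr ?_
    have h := (hc w hw).map (MulAut.conj g)
    rw [MulAut.conj_apply g a, hg] at h
    exact h.eq
  have h120 : Nat.card K' ∣ 8 * 15 := by
    have := card_dvd_of_le hle
    rw [d.card_centralizer_t] at this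
    exact this
  rw [← hcard] at hK ⊢
  have h15 : Nat.card K' ∣ 15 :=
    Nat.Coprime.dvd_of_dvd_mul_left (Nat.Coprime.pow_right 3 (Nat.coprime_two_right.mpr hK) :
      (Nat.card K').Coprime (2 ^ 3)) h120
  have hne : Nat.card K' ≠ 15 := by
    intro h
    haveI : Fact (Nat.Prime 3) := ⟨Nat.prime_three⟩
    haveI : Fact (Nat.Prime 5) := ⟨Nat.prime_five⟩
    obtain ⟨p, hp⟩ := exists_prime_orderOf_dvd_card' (G := K') 3 (by rw [h]; norm_num)
    obtain ⟨q, hq⟩ := exists_prime_orderOf_dvd_card' (G := K') 5 (by rw [h]; norm_num)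
    have hn : (zpowers q).Normal := by
      refine normal_of_index_eq_minFac_card ?_
      have := (zpowers q).card_mul_index
      rw [Nat.card_zpowers, hq, h] at this
      rw [h]
      norm_num
      omega
    obtain ⟨kp, hkp⟩ := d.exists_em (mem_centralizer_singleton_iff.mp (hle p.2))
    obtain ⟨kq, hkq⟩ := d.exists_em (mem_centralizer_singleton_iff.mp (hle q.2))
    have hkp3 : kp ^ 3 = 1 := d.em_injective (by
      rw [map_pow, map_one, hkp, ← SubgroupClass.coe_pow, ← hp, pow_orderOf_eq_one, coe_one])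
    have hkq5 : kq ^ 5 = 1 := d.em_injective (by
      rw [map_pow, map_one, hkq, ← SubgroupClass.coe_pow, ← hq, pow_orderOf_eq_one, coe_one])
    have hkp1 : kp ≠ 1 := fun e => by
      rw [e, map_one] at hkp
      rw [show p = 1 from Subtype.ext hkp.symm, orderOf_one] at hp
      omega
    have hkq1 : kq ≠ 1 := fun e => by
      rw [e, map_one] at hkq
      rw [show q = 1 from Subtype.ext hkq.symm, orderOf_one] at hq
      omega
    obtain ⟨n1, n2, n3, n4⟩ := not_fifteen kq hkq5 hkq1 kp hkp3 hkp1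
    have hmem : p * q * p⁻¹ ∈ zpowers q := hn.conj_mem q (mem_zpowers q) p
    obtain ⟨i, hi⟩ := Submonoid.mem_powers_iff _ _ |>.mp (mem_powers_iff_mem_zpowers.mpr hmem)
    rw [← Nat.mod_add_div i 5, pow_add, pow_mul, ← hq, pow_orderOf_eq_one, one_pow, mul_one, hq]
      at hi
    have key : kp * kq = kq ^ (i % 5) * kp := d.em_injective (by
      rw [map_mul, map_mul, map_pow, hkp, hkq]
      have := congrArg Subtype.val hi
      push_cast at this
      rw [this, inv_mul_cancel_right])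
    have h5 : i % 5 < 5 := Nat.mod_lt _ (by norm_num)
    interval_cases h' : i % 5
    · rw [pow_zero, one_mul, mul_eq_left] at key
      exact hkq1 key
    · rw [pow_one] at key; exact n1 key
    · exact n2 key
    · exact n3 key
    · exact n4 key
  have hmem := Nat.mem_divisors.mpr ⟨h15, by norm_num⟩
  rw [show Nat.divisors 15 = {1, 3, 5, 15} from by decide] at hmem
  simp only [Finset.mem_insert, Finset.mem_singleton] at hmem
  omega

theorem not_four_dvd_centralizer {x : G} (hx : d.S0 x) :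
    ¬4 ∣ Nat.card (Subgroup.centralizer ({x} : Set G)) := by
  intro h4
  haveI : Fact (Nat.Prime 2) := ⟨Nat.prime_two⟩
  obtain ⟨hx3, hx1, hxt, -⟩ := hx
  set C := Subgroup.centralizer ({x} : Set G)
  set tc : C := ⟨d.t, mem_centralizer_singleton_iff.mpr hxt.symm.eq⟩
  have htc : orderOf tc = 2 := by
    rw [← orderOf_coe]
    exact orderOf_eq_prime (by rw [sq]; exact d.mul_self) d.ne_one
  obtain ⟨R, hR, hle⟩ := Sylow.exists_subgroup_card_pow_prime_le (G := C) 2 (n := 1) (m := 2)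
    (by norm_num; exact h4) (zpowers tc) (by rw [Nat.card_zpowers, htc, pow_one]) (by norm_num)
  have hR4 : Nat.card R = 4 := by rw [hR]; norm_num
  have hexp : ∀ w : R, w * w = 1 := fun w => by
    apply Subtype.ext
    apply Subtype.ext
    refine d.no_four _ ?_
    have := congrArg (fun u : R => ((u : C) : G)) (pow_card_eq_one' (x := w))
    simpa [hR4] using this
  obtain ⟨a, rfl⟩ := d.exists_em hxt
  have hsub : ∀ w : R, ((w : C) : G) = 1 ∨ ((w : C) : G) = d.t := by
    intro w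
    have hc : Commute ((w : C) : G) d.t := by
      have h : w * ⟨tc, hle (mem_zpowers tc)⟩ = ⟨tc, hle (mem_zpowers tc)⟩ * w := by
        set u : R := ⟨tc, hle (mem_zpowers tc)⟩
        calc w * u = w * ((w * u) * (w * u)) * u := by rw [hexp, mul_one]
          _ = (w * w) * (u * w) * (u * u) := by simp [mul_assoc]
          _ = u * w := by rw [hexp, hexp, one_mul, mul_one]
      exact congrArg (fun v : R => ((v : C) : G)) h
    obtain ⟨l, hl⟩ := d.exists_em hc
    have hla : l * a = a * l := d.em_injective (by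
      rw [map_mul, map_mul, hl]
      exact mem_centralizer_singleton_iff.mp (w : C).2)
    have hl2 : l * l = 1 := d.em_injective (by
      rw [map_mul, map_one, hl]
      exact congrArg (fun v : R => ((v : C) : G)) (hexp w))
    rcases (commute_three a (d.em_injective (by rw [map_pow, map_one, hx3]))
      (fun e => hx1 (by rw [e, map_one])) l hla).1 hl2 with e | e
    · exact Or.inl (by rw [← hl, e, map_one])
    · exact Or.inr (by rw [← hl, e, d.em_tM])
  have : Nat.card R ≤ Nat.card ({1, d.t} : Set G) := by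
    refine Nat.card_le_card_of_injective
      (fun w : R => (⟨((w : C) : G), by simpa using hsub w⟩ : ({1, d.t} : Set G))) ?_
    intro a b h
    exact Subtype.ext (Subtype.ext (by simpa using congrArg Subtype.val h))
  rw [hR4, Nat.card_coe_set_eq, Set.ncard_pair d.ne_one.symm] at this
  omega

/-- The odd part of the centraliser of a member of the first slot. -/
theorem exists_O {x : G} (hx : d.S0 x) :
    ∃ O : Subgroup G, (∀ w, w ∈ O ↔ Commute w x ∧ Odd (orderOf w)) ∧ Odd (Nat.card O) ∧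
      Nat.card (Subgroup.centralizer ({x} : Set G)) = 2 * Nat.card O := by
  obtain ⟨O, hO, hcard, hodd⟩ := exists_oddPart d.mul_self d.ne_one
    (H := Subgroup.centralizer ({x} : Set G))
    (mem_centralizer_singleton_iff.mpr hx.2.2.1.symm.eq) (d.not_four_dvd_centralizer hx)
  exact ⟨O, fun w => by rw [hO]; exact and_congr_left' mem_centralizer_singleton_iff, hodd, hcard⟩

theorem odd_orderOf_three {x : G} (h : x ^ 3 = 1) : Odd (orderOf x) :=
  Odd.of_dvd_nat (by decide) (orderOf_dvd_of_pow_eq_one h)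

theorem exists_slot_of_card {K : Subgroup G} (hcard : Nat.card K = 3) {a : G}
    (hc : ∀ w ∈ K, Commute w a) (ht : ∀ w ∈ K, d.t * w * d.t⁻¹ ∈ K)
    (hne : ∀ w ∈ K, Commute w d.t → w = 1) :
    ∃ p ∈ K, p ^ 3 = 1 ∧ p ≠ 1 ∧ Commute p a ∧ d.t * p * d.t⁻¹ = p⁻¹ ∧ zpowers p = K := by
  haveI : Fact (Nat.Prime 3) := ⟨Nat.prime_three⟩
  obtain ⟨p, hp⟩ := exists_prime_orderOf_dvd_card' (G := K) 3 (by rw [hcard])
  have hp' : orderOf (p : G) = 3 := by rw [orderOf_coe, hp]
  have hp3 : (p : G) ^ 3 = 1 := by rw [← hp', pow_orderOf_eq_one]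
  have hp1 : (p : G) ≠ 1 := fun e => by rw [e, orderOf_one] at hp'; omega
  have hz : zpowers (p : G) = K :=
    eq_of_le_of_card_ge (zpowers_le.mpr p.2) (by rw [hcard, Nat.card_zpowers, hp'])
  refine ⟨p, p.2, hp3, hp1, hc p p.2, ?_, hz⟩
  have htp : d.t * (p : G) * d.t⁻¹ ∈ zpowers (p : G) := by rw [hz]; exact ht p p.2
  rcases mem_zpowers_three hp3 htp with h | h | h
  · exact absurd (conj_eq_one_iff.mp h) hp1
  · exact absurd (hne p p.2 (eq_mul_inv_iff_mul_eq.mp h.symm)) hp1
  · exact h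

theorem centralizer_nine {x : G} (hx : d.S0 x) (h9 : 9 ∣ Nat.card G) :
    9 ∣ Nat.card (Subgroup.centralizer ({x} : Set G)) := by
  haveI : Fact (Nat.Prime 3) := ⟨Nat.prime_three⟩
  have hox : orderOf x = 3 := orderOf_eq_prime hx.1 hx.2.1
  obtain ⟨Q, hQ⟩ := (IsPGroup.of_card (n := 1) (by rw [Nat.card_zpowers, hox, pow_one] :
    Nat.card (zpowers x) = 3 ^ 1)).exists_le_sylow
  have hQ9 : 9 ∣ Nat.card Q := by
    have := Q.pow_dvd_card_of_pow_dvd_card (n := 2) (by norm_num; exact h9)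
    simpa using this
  set H := (Q : Subgroup G) ⊓ Subgroup.centralizer ({x} : Set G)
  have hxH : zpowers x ≤ H :=
    le_inf hQ (zpowers_le.mpr (mem_centralizer_singleton_iff.mpr rfl))
  obtain ⟨k, hk⟩ := IsPGroup.iff_card.mp (Q.2.to_le (inf_le_left : H ≤ _))
  by_cases hk2 : 2 ≤ k
  · exact ((pow_dvd_pow 3 hk2).trans hk.symm.dvd).trans (card_dvd_of_le inf_le_right)
  exfalso
  have hHx : H = zpowers x := (eq_of_le_of_card_ge hxH (by
    rw [Nat.card_zpowers, hox, hk]
    calc 3 ^ k ≤ 3 ^ 1 := Nat.pow_le_pow_right (by norm_num) (by omega)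
      _ = 3 := pow_one 3)).symm
  haveI : Nontrivial Q := Finite.one_lt_card_iff_nontrivial.mp (by
    have := Nat.le_of_dvd Nat.card_pos hQ9
    omega)
  haveI := Q.2.center_nontrivial
  obtain ⟨⟨c, hc⟩, hc1⟩ := exists_ne (1 : center Q)
  have hcG : (c : G) ∈ H := ⟨c.2, mem_centralizer_singleton_iff.mpr (by
    exact (congrArg Subtype.val (mem_center_iff.mp hc ⟨x, hQ (mem_zpowers x)⟩)).symm)⟩
  rw [hHx] at hcG
  have hxc : ∀ w ∈ (Q : Subgroup G), w * x = x * w := by
    intro w hw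
    have hwc : Commute w (c : G) := congrArg Subtype.val (mem_center_iff.mp hc ⟨w, hw⟩)
    rcases mem_zpowers_three hx.1 hcG with h | h | h
    · exact absurd (Subtype.ext (Subtype.ext h) : (⟨c, hc⟩ : center Q) = 1) hc1
    · rw [← h]; exact hwc.eq
    · rw [h] at hwc
      simpa using hwc.inv_right.eq
  have hle : (Q : Subgroup G) ≤ H := fun w hw => ⟨hw, mem_centralizer_singleton_iff.mpr (hxc w hw)⟩
  have := Nat.le_of_dvd Nat.card_pos hQ9
  have hle' := card_le_of_le hle
  rw [hHx, Nat.card_zpowers, hox] at hle'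
  omega

/-- The structure of the centraliser of a member of the first slot, if `9 ∣ |G|`. -/
theorem slot_data {x : G} (hx : d.S0 x) (h9 : 9 ∣ Nat.card G) :
    ∃ O : Subgroup G, (∀ w, w ∈ O ↔ Commute w x ∧ Odd (orderOf w)) ∧
      ((∃ p, d.S1 p ∧ Commute p x) ∨ (∃ q, d.S2 q ∧ Commute q x)) ∧
      ((∃ p, d.S1 p ∧ Commute p x) → (∃ q, d.S2 q ∧ Commute q x) → Nat.card O = 27 ∧
        (∀ p q : G, d.S1 p → Commute p x → d.S1 q → Commute q x → q = p ∨ q = p⁻¹) ∧
        (∀ p q : G, d.S2 p → Commute p x → d.S2 q → Commute q x → q = p ∨ q = p⁻¹)) := by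
  obtain ⟨O, hO, hodd, hC⟩ := d.exists_O hx
  have hx3 := hx.1
  have hx1 := hx.2.1
  have hxt : Commute x d.t := hx.2.2.1
  have hxv : d.v * x * d.v⁻¹ = x⁻¹ := hx.2.2.2
  have hxO : x ∈ O := (hO x).mpr ⟨Commute.refl x, odd_orderOf_three hx3⟩
  have hnt : ∀ w ∈ O, d.t * w * d.t⁻¹ ∈ O := by
    intro w hw
    obtain ⟨hc, ho⟩ := (hO w).mp hw
    refine (hO _).mpr ⟨?_, by rwa [← MulAut.conj_apply, MulEquiv.orderOf_eq]⟩
    have := hc.map (MulAut.conj d.t)
    rwa [MulAut.conj_apply, MulAut.conj_apply, hxt.symm.eq, mul_inv_cancel_right] at this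
  have hnv : ∀ w ∈ O, d.v * w * d.v⁻¹ ∈ O := by
    intro w hw
    obtain ⟨hc, ho⟩ := (hO w).mp hw
    refine (hO _).mpr ⟨?_, by rwa [← MulAut.conj_apply, MulEquiv.orderOf_eq]⟩
    have := hc.map (MulAut.conj d.v)
    rw [MulAut.conj_apply, MulAut.conj_apply, hxv] at this
    exact Commute.inv_right_iff.mp this
  have hnorm : ∀ u : G, (∀ w ∈ O, u * w * u⁻¹ ∈ O) → u * u = 1 → u ∈ normalizer (O : Set G) := by
    intro u hu hu2
    refine mem_normalizer_iff.mpr fun w => ⟨hu w, fun h => ?_⟩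
    have := hu _ h
    rwa [show u * (u * w * u⁻¹) * u⁻¹ = (u * u) * w * (u * u)⁻¹ by group, hu2, inv_one, mul_one,
      one_mul] at this
  have hW := CfsgLib.Cores.brauerWielandt (p := 2) (x := d.t) (y := d.v)
    (by rw [sq, d.mul_self]) (by rw [sq, d.v_sq]) d.tv (K := O)
    (Nat.coprime_two_right.mpr hodd) (hnorm _ hnt d.mul_self) (hnorm _ hnv d.v_sq)
  rw [Fintype.prod_option, Fin.prod_univ_two] at hW
  simp only [CfsgLib.Cores.lineGen, Fin.val_zero, Fin.val_one, pow_zero, pow_one, mul_one,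
    ← d.tv.eq] at hW
  have hU : Nat.card ↥(O ⊓ centralizer ((zpowers d.t ⊔ zpowers d.v : Subgroup G) : Set G)) = 1 := by
    rw [Subgroup.card_eq_one, eq_bot_iff]
    rintro w ⟨hw, hc⟩
    have hc1 := mem_centralizer_iff.mp hc d.t (mem_sup_left (mem_zpowers _))
    have hc2 := mem_centralizer_iff.mp hc d.v (mem_sup_right (mem_zpowers _))
    have hsq := d.sq_of_commute (w := w) hc1.symm hc2.symm
    obtain ⟨-, k, hk⟩ := (hO w).mp hw
    have : w ^ (2 * k + 1) = 1 := by rw [← hk, pow_orderOf_eq_one]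
    rw [pow_succ, pow_mul, sq, hsq, one_pow, one_mul] at this
    exact mem_bot.mpr this
  have hfix : ∀ w ∈ O, Commute w d.t → w ∈ zpowers x := by
    intro w hw hc
    obtain ⟨hwx, ho⟩ := (hO w).mp hw
    obtain ⟨a, rfl⟩ := d.exists_em hxt
    obtain ⟨l, rfl⟩ := d.exists_em hc
    obtain ⟨-, h6, h3⟩ := commute_three a (d.em_injective (by rw [map_pow, map_one, hx3]))
      (fun e => hx1 (by rw [e, map_one])) l (d.em_injective (by rw [map_mul, map_mul]; exact hwx.eq))
    rw [orderOf_injective d.em d.em_injective] at ho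
    have hl : orderOf l ∣ 3 :=
      Nat.Coprime.dvd_of_dvd_mul_left (Nat.coprime_two_right.mpr ho)
        (orderOf_dvd_of_pow_eq_one h6 : orderOf l ∣ 2 * 3)
    rcases h3 (orderOf_dvd_iff_pow_eq_one.mp hl) with e | e | e
    · rw [e, map_one]; exact one_mem _
    · rw [e]; exact mem_zpowers _
    · rw [e, map_mul]; exact mul_mem (mem_zpowers _) (mem_zpowers _)
  have ht3 : Nat.card ↥(O ⊓ centralizer ({d.t} : Set G)) = 3 := by
    have : O ⊓ centralizer ({d.t} : Set G) = zpowers x := by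
      refine le_antisymm (fun w hw => hfix w hw.1 (mem_centralizer_singleton_iff.mp hw.2))
        (zpowers_le.mpr ⟨hxO, mem_centralizer_singleton_iff.mpr hxt.eq⟩)
    rw [this, Nat.card_zpowers, orderOf_eq_prime hx3 hx1]
  rw [hU, ht3, one_pow, mul_one] at hW
  set A1 := O ⊓ centralizer ({d.v} : Set G) with hA1
  set A2 := O ⊓ centralizer ({d.t * d.v} : Set G) with hA2
  have hc1 : ∀ w ∈ A1, Commute w d.v := fun w hw => mem_centralizer_singleton_iff.mp hw.2
  have hc2 : ∀ w ∈ A2, Commute w (d.t * d.v) := fun w hw => mem_centralizer_singleton_iff.mp hw.2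
  have h1 := d.card_odd_subgroup (K := A1) (hodd.of_dvd_nat (card_dvd_of_le inf_le_left))
    (g := d.z⁻¹) (a := d.v) (by rw [← d.z_t]; group) hc1
  have h2 := d.card_odd_subgroup (K := A2) (hodd.of_dvd_nat (card_dvd_of_le inf_le_left))
    (g := d.z) (a := d.t * d.v) d.z_tv hc2
  have hxx : ∀ w ∈ zpowers x, Commute w d.v → w = 1 := by
    intro w hw hc
    rcases mem_zpowers_three hx3 hw with e | e | e
    · exact e
    · exact absurd (e ▸ hc) (Slot.not_commute hx)
    · exact absurd (Commute.inv_left_iff.mp (e ▸ hc)) (Slot.not_commute hx)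
  have hn1 : ∀ w ∈ A1, Commute w d.t → w = 1 := fun w hw hc => hxx w (hfix w hw.1 hc) (hc1 w hw)
  have hn2 : ∀ w ∈ A2, Commute w d.t → w = 1 := fun w hw hc => hxx w (hfix w hw.1 hc) (by
    have := hc.mul_right (hc2 w hw)
    rwa [← mul_assoc, d.mul_self, one_mul] at this)
  have ht1 : ∀ w ∈ A1, d.t * w * d.t⁻¹ ∈ A1 := fun w hw =>
    ⟨hnt w hw.1, mem_centralizer_singleton_iff.mpr (by
      have := (hc1 w hw).map (MulAut.conj d.t)
      rw [MulAut.conj_apply, MulAut.conj_apply, d.tv.eq, mul_inv_cancel_right] at this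
      exact this.eq)⟩
  have ht2 : ∀ w ∈ A2, d.t * w * d.t⁻¹ ∈ A2 := fun w hw =>
    ⟨hnt w hw.1, mem_centralizer_singleton_iff.mpr (by
      have := (hc2 w hw).map (MulAut.conj d.t)
      rw [MulAut.conj_apply, MulAut.conj_apply,
        ((Commute.refl d.t).mul_right d.tv).eq, mul_inv_cancel_right] at this
      exact this.eq)⟩
  have hmem1 : ∀ p, d.S1 p → Commute p x → p ∈ A1 := fun p hp hc =>
    ⟨(hO p).mpr ⟨hc, odd_orderOf_three hp.1⟩, mem_centralizer_singleton_iff.mpr hp.2.2.1.eq⟩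
  have hmem2 : ∀ p, d.S2 p → Commute p x → p ∈ A2 := fun p hp hc =>
    ⟨(hO p).mpr ⟨hc, odd_orderOf_three hp.1⟩, mem_centralizer_singleton_iff.mpr hp.2.2.1.eq⟩
  refine ⟨O, hO, ?_, ?_⟩
  · have h9C := d.centralizer_nine hx h9
    rw [hC, hW] at h9C
    have h3 : Nat.card A1 = 3 ∨ Nat.card A2 = 3 := by
      rcases h1 with a | a | a <;> rcases h2 with b | b | b <;> rw [a, b] at h9C <;> omega
    rcases h3 with h | h
    · left
      obtain ⟨p, hp, hp3, hp1, hpa, hpi, -⟩ := d.exists_slot_of_card h hc1 ht1 hn1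
      exact ⟨p, d.S1_of hp3 hp1 hpa hpi, ((hO p).mp hp.1).1⟩
    · right
      obtain ⟨p, hp, hp3, hp1, hpa, hpi, -⟩ := d.exists_slot_of_card h hc2 ht2 hn2
      exact ⟨p, ⟨hp3, hp1, hpa, hpi⟩, ((hO p).mp hp.1).1⟩
  · rintro ⟨p0, hp0, hp0x⟩ ⟨q0, hq0, hq0x⟩
    have key : ∀ (K : Subgroup G) (y : G), y ^ 3 = 1 → y ≠ 1 → y ∈ K →
        Nat.card K = 1 ∨ Nat.card K = 3 ∨ Nat.card K = 5 → Nat.card K = 3 ∧ zpowers y = K := by
      intro K y hy3 hy1 hyK hK
      have ho : orderOf y = 3 := orderOf_eq_prime hy3 hy1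
      have hd := Subgroup.orderOf_dvd_natCard K hyK
      rw [ho] at hd
      have h3 : Nat.card K = 3 := by omega
      exact ⟨h3, eq_of_le_of_card_ge (zpowers_le.mpr hyK) (by rw [h3, Nat.card_zpowers, ho])⟩
    obtain ⟨ha, -⟩ := key A1 p0 hp0.1 hp0.2.1 (hmem1 _ hp0 hp0x) h1
    obtain ⟨hb, -⟩ := key A2 q0 hq0.1 hq0.2.1 (hmem2 _ hq0 hq0x) h2
    refine ⟨by rw [hW, ha, hb]; norm_num, ?_, ?_⟩
    · intro p q hp hpx hq hqx
      have hq' := hmem1 q hq hqx
      rw [← (key A1 p hp.1 hp.2.1 (hmem1 p hp hpx) h1).2] at hq'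
      exact (mem_zpowers_three hp.1 hq').resolve_left hq.2.1
    · intro p q hp hpx hq hqx
      have hq' := hmem2 q hq hqx
      rw [← (key A2 p hp.1 hp.2.1 (hmem2 p hp hpx) h2).2] at hq'
      exact (mem_zpowers_three hp.1 hq').resolve_left hq.2.1

theorem linked {x p : G} (hx : d.S0 x) (hp : d.S1 p) (hc : Commute p x) :
    (∀ x', d.S0 x' → ∃ p', d.S1 p' ∧ Commute p' x') ∧
    (∀ x', d.S0 x' → ∃ q', d.S2 q' ∧ Commute q' x') := by
  refine ⟨fun x' hx' => ?_, fun x' hx' => ?_⟩
  · obtain ⟨w, hwt, hwv, hw⟩ := d.S0_conj hx hx'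
    refine ⟨w * p * w⁻¹, ?_, ?_⟩
    · have := Slot.conj hp w
      rwa [hwv.eq, mul_inv_cancel_right, (hwt.mul_right hwv).eq, mul_inv_cancel_right] at this
    · rw [← hw]
      exact hc.map (MulAut.conj w)
  · have hx2 : d.S0 (d.z * (d.z * p * d.z⁻¹) * d.z⁻¹) := d.S2_z (d.S1_z hp)
    have hq2 : d.S2 (d.z * (d.z * x * d.z⁻¹) * d.z⁻¹) := d.S1_z (d.S0_z hx)
    obtain ⟨w, hwt, hwv, hw⟩ := d.S0_conj hx2 hx'
    refine ⟨w * (d.z * (d.z * x * d.z⁻¹) * d.z⁻¹) * w⁻¹, ?_, ?_⟩
    · have := Slot.conj hq2 w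
      rwa [hwt.eq, mul_inv_cancel_right, (hwt.mul_right hwv).eq, mul_inv_cancel_right] at this
    · rw [← hw]
      exact ((hc.map (MulAut.conj d.z)).map (MulAut.conj d.z)).symm.map (MulAut.conj w)

theorem partners {x : G} (hx : d.S0 x) (h9 : 9 ∣ Nat.card G) :
    (∃ p, d.S1 p ∧ Commute p x) ∧ ∃ q, d.S2 q ∧ Commute q x := by
  obtain ⟨O, -, h, -⟩ := d.slot_data hx h9
  rcases h with ⟨p, hp, hpx⟩ | ⟨q, hq, hqx⟩
  · exact ⟨(d.linked hx hp hpx).1 x hx, (d.linked hx hp hpx).2 x hx⟩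
  · have := d.linked (d.S2_z hq) (d.S0_z hx) (hqx.map (MulAut.conj d.z)).symm
    exact ⟨this.1 x hx, this.2 x hx⟩

theorem eightyone_dvd (d : Data G) (h9 : 9 ∣ Nat.card G) : 81 ∣ Nat.card G := by
  haveI : Fact (Nat.Prime 3) := ⟨Nat.prime_three⟩
  obtain ⟨x, hx⟩ := d.exists_S0
  obtain ⟨⟨p, hp, hpx⟩, q, hq, hqx⟩ := d.partners hx h9
  obtain ⟨O, hO, -, hO'⟩ := d.slot_data hx h9
  obtain ⟨hO27, -, huq⟩ := hO' ⟨p, hp, hpx⟩ ⟨q, hq, hqx⟩
  -- `f` moves `x` to `p` and cycles the four-group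
  obtain ⟨w, hwt, hwv, hw⟩ := d.S1_conj (d.S0_z hx) hp
  set f := w * d.z with hf
  have hconjf : ∀ a, f * a * f⁻¹ = w * (d.z * a * d.z⁻¹) * w⁻¹ := fun a => by rw [hf]; group
  have hfx : f * x * f⁻¹ = p := by rw [hconjf, hw]
  have hft : f * d.t * f⁻¹ = d.v := by rw [hconjf, d.z_t, hwv.eq, mul_inv_cancel_right]
  have hfv : f * d.v * f⁻¹ = d.t * d.v := by
    rw [hconjf, d.z_v, (hwt.mul_right hwv).eq, mul_inv_cancel_right]
  have hftv : f * (d.t * d.v) * f⁻¹ = d.t := by
    rw [hconjf, d.z_tv, hwt.eq, mul_inv_cancel_right]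
  set Op := O.map (MulAut.conj f).toMonoidHom with hOp
  have hOp27 : Nat.card Op = 27 := by
    rw [hOp, card_map_of_injective (MulAut.conj f).injective, hO27]
  have hOpmem : ∀ a, a ∈ Op ↔ Commute a p ∧ Odd (orderOf a) := by
    intro a
    have ha : a = MulAut.conj f (f⁻¹ * a * f) := by simp [mul_assoc]
    constructor
    · rintro ⟨b, hb, rfl⟩
      obtain ⟨hc, ho⟩ := (hO b).mp hb
      refine ⟨?_, by rwa [MulEquiv.coe_toMonoidHom, MulEquiv.orderOf_eq]⟩
      rw [← hfx]
      exact hc.map (MulAut.conj f)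
    · rintro ⟨hc, ho⟩
      refine ⟨f⁻¹ * a * f, (hO _).mpr ⟨?_, ?_⟩, ha.symm⟩
      · have := hc.map (MulAut.conj f⁻¹)
        simp only [MulAut.conj_apply, inv_inv] at this
        rwa [show f⁻¹ * p * f = x by rw [← hfx]; group] at this
      · rwa [ha, MulEquiv.orderOf_eq] at ho
  have hxO : x ∈ O := (hO x).mpr ⟨Commute.refl x, odd_orderOf_three hx.1⟩
  have hpO : p ∈ O := (hO p).mpr ⟨hpx, odd_orderOf_three hp.1⟩
  have hqO : q ∈ O := (hO q).mpr ⟨hqx, odd_orderOf_three hq.1⟩
  have hxOp : x ∈ Op := (hOpmem x).mpr ⟨hpx.symm, odd_orderOf_three hx.1⟩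
  have hpOp : p ∈ Op := (hOpmem p).mpr ⟨Commute.refl p, odd_orderOf_three hp.1⟩
  have hxc : ∀ a ∈ O, a * x = x * a := fun a ha => ((hO a).mp ha).1.eq
  have hpc : ∀ a ∈ Op, a * p = p * a := fun a ha => ((hOpmem a).mp ha).1.eq
  have hxp : x ∉ zpowers p := fun h => by
    rcases mem_zpowers_three hp.1 h with e | e | e
    · exact hx.2.1 e
    · exact Slot.not_commute hx (e ▸ hp.2.2.1)
    · exact Slot.not_commute hx (e ▸ hp.2.2.1.inv_left)
  by_cases hab : ∀ a ∈ O, ∀ b ∈ O, a * b = b * a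
  · -- an element of order three outside `O` normalises it
    have hle : O ≤ Op := fun a ha =>
      (hOpmem a).mpr ⟨hab a ha p hpO, ((hO a).mp ha).2⟩
    have hOeq : Op = O := (eq_of_le_of_card_ge hle (by rw [hOp27, hO27])).symm
    have hfN : ∀ a ∈ O, f * a * f⁻¹ ∈ O := fun a ha => hOeq ▸ ⟨a, ha, rfl⟩
    have hf3t : Commute (f ^ 3) d.t := by
      refine mul_inv_eq_iff_eq_mul.mp ?_
      calc f ^ 3 * d.t * (f ^ 3)⁻¹ = f * (f * (f * d.t * f⁻¹) * f⁻¹) * f⁻¹ := by
            simp [pow_succ, mul_assoc]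
        _ = d.t := by rw [hft, hfv, hftv]
    have hf3v : Commute (f ^ 3) d.v := by
      have := hf3t.map (MulAut.conj f)
      simp only [MulAut.conj_apply, hft] at this
      rwa [show f * f ^ 3 * f⁻¹ = f ^ 3 by rw [← pow_succ', pow_succ, mul_inv_cancel_right]] at this
    have hf6 : f ^ 3 * f ^ 3 = 1 := d.sq_of_commute hf3t hf3v
    set g := f ^ 4 with hg
    have hg3 : g ^ 3 = 1 := by
      rw [hg, ← pow_mul, show 4 * 3 = (3 + 3) * 2 by norm_num, pow_mul, pow_add, hf6, one_pow]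
    have hgt : g * d.t * g⁻¹ = d.v := by
      rw [hg, show f ^ 4 = f * f ^ 3 by rw [← pow_succ'], mul_assoc (f * f ^ 3), mul_inv_rev,
        ← mul_assoc d.t, ← hf3t.inv_left.eq]
      simp only [mul_assoc, mul_inv_cancel_left]
      rw [← mul_assoc]
      exact hft
    have hgN : g ∈ normalizer (O : Set G) := by
      have h1 : f ∈ normalizer (O : Set G) := by
        refine mem_normalizer_iff.mpr fun a => ⟨hfN a, fun h => ?_⟩
        have h' : f * a * f⁻¹ ∈ O.map (MulAut.conj f).toMonoidHom := by rw [← hOp, hOeq]; exact h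
        obtain ⟨b, hb, hbe⟩ := h'
        rwa [← (MulAut.conj f).injective (show MulAut.conj f b = MulAut.conj f a from hbe)]
      exact pow_mem h1 _
    have hgO : g ∉ O := by
      intro hgO
      apply Slot.not_commute hx
      have := (Commute.map (hx.2.2.1) (MulAut.conj g))
      simp only [MulAut.conj_apply, hgt, hxc g hgO, mul_inv_cancel_right] at this
      exact this
    set N := normalizer (O : Set G)
    haveI : (O.subgroupOf N).Normal := normal_in_normalizer
    have hq3 : orderOf (QuotientGroup.mk (⟨g, hgN⟩ : N) : N ⧸ O.subgroupOf N) = 3 := by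
      refine orderOf_eq_prime ?_ ?_
      · rw [← QuotientGroup.mk_pow, show (⟨g, hgN⟩ : N) ^ 3 = 1 from Subtype.ext hg3,
          QuotientGroup.mk_one]
      · rw [ne_eq, QuotientGroup.eq_one_iff, mem_subgroupOf]
        exact hgO
    have h3 : 3 ∣ (O.subgroupOf N).index := hq3 ▸ orderOf_dvd_natCard _
    have hcard := (O.subgroupOf N).card_mul_index
    rw [Nat.card_congr (subgroupOfEquivOfLe le_normalizer).toEquiv, hO27] at hcard
    obtain ⟨k, hk⟩ := h3
    exact (Dvd.intro k (by rw [← hcard, hk]; ring) : 81 ∣ Nat.card N).trans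
      (card_subgroup_dvd_card N)
  · -- an element of order divisible by four
    exfalso
    have hOpnc : ¬∀ a ∈ Op, ∀ b ∈ Op, a * b = b * a := by
      intro h
      apply hab
      intro a ha b hb
      have := h _ ⟨a, ha, rfl⟩ _ ⟨b, hb, rfl⟩
      rw [← map_mul, ← map_mul] at this
      exact (MulAut.conj f).injective this
    have hqp : ¬Commute q p := by
      intro hc
      -- `q` lies outside `⟨x, p⟩`, so `p` is central in `O`
      set E := zpowers x ⊔ zpowers p with hE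
      have hn : zpowers x ≤ normalizer ((zpowers p : Subgroup G) : Set G) := by
        refine zpowers_le.mpr (centralizer_le_normalizer _ (mem_centralizer_iff.mpr ?_))
        rintro _ ⟨i, rfl⟩
        exact (hpx.zpow_left i).eq
      have hqE : q ∉ E := by
        intro h
        rw [← SetLike.mem_coe, hE, coe_mul_of_left_le_normalizer_right _ _ hn] at h
        obtain ⟨u, hu, r, hr, hur⟩ := h
        obtain ⟨i, rfl⟩ := mem_zpowers_iff.mp hu
        obtain ⟨j, rfl⟩ := mem_zpowers_iff.mp hr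
        have h1 : (x ^ i) * (p ^ j)⁻¹ = q⁻¹ := by
          rw [← hq.2.2.2, ← hur, ← conj_mul, (hx.2.2.1.zpow_left i).symm.eq, mul_inv_cancel_right,
            ← conj_zpow, d.S1_inv_t hp, inv_zpow]
        rw [← hur, mul_inv_rev, ← (hpx.symm.zpow_zpow i j).inv_inv.eq, mul_left_inj] at h1
        have h2 : x ^ i * x ^ i = 1 := by nth_rw 1 [h1]; exact inv_mul_cancel _
        have h3 : (x ^ i) ^ 3 = 1 := by
          rw [← zpow_natCast, ← zpow_mul, mul_comm, zpow_mul, zpow_natCast, hx.1, one_zpow]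
        have h4 : x ^ i = 1 := by rwa [pow_succ, sq, h2, one_mul] at h3
        simp only [h4, one_mul] at hur
        have hqv : Commute q d.v := hur ▸ hp.2.2.1.zpow_left j
        apply Slot.not_commute hq
        have := hq.2.2.1.mul_right hqv
        rwa [mul_assoc, d.v_sq, mul_one] at this
      set T := O ⊓ Subgroup.centralizer ({p} : Set G) with hTdef
      have hET : E ≤ T := sup_le
        (zpowers_le.mpr ⟨hxO, mem_centralizer_singleton_iff.mpr hpx.symm.eq⟩)
        (zpowers_le.mpr ⟨hpO, mem_centralizer_singleton_iff.mpr rfl⟩)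
      have hqT : q ∈ T := ⟨hqO, mem_centralizer_singleton_iff.mpr hc.eq⟩
      have hEx : zpowers x < E := lt_of_le_of_ne le_sup_left fun e => hxp (by
        have hpz : p ∈ zpowers x := e ▸ mem_sup_right (mem_zpowers p)
        rcases mem_zpowers_three hx.1 hpz with e' | e' | e'
        · exact absurd e' hp.2.1
        · rw [e']; exact mem_zpowers x
        · rw [e', zpowers_inv]; exact mem_zpowers x)
      have hTE : E < T := lt_of_le_of_ne hET fun e => hqE (e ▸ hqT)
      have hT : T = O := by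
        refine eq_of_le_of_card_ge inf_le_left ?_
        have l1 : Nat.card (zpowers x) < Nat.card E := Nat.lt_of_le_of_ne (card_le_of_le hEx.le)
          fun e => hEx.ne (eq_of_le_of_card_ge hEx.le e.ge)
        have l2 : Nat.card E < Nat.card T := Nat.lt_of_le_of_ne (card_le_of_le hTE.le)
          fun e => hTE.ne (eq_of_le_of_card_ge hTE.le e.ge)
        rw [Nat.card_zpowers, orderOf_eq_prime hx.1 hx.2.1] at l1
        have d1 : Nat.card T ∣ 27 := hO27 ▸ card_dvd_of_le inf_le_left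
        have d2 : Nat.card E ∣ 27 := (card_dvd_of_le hTE.le).trans d1
        have m1 := Nat.mem_divisors.mpr ⟨d1, by norm_num⟩
        have m2 := Nat.mem_divisors.mpr ⟨d2, by norm_num⟩
        rw [show Nat.divisors 27 = {1, 3, 9, 27} from by decide] at m1 m2
        simp only [Finset.mem_insert, Finset.mem_singleton] at m1 m2
        omega
      have hpZ : ∀ a ∈ O, a * p = p * a := fun a ha =>
        mem_centralizer_singleton_iff.mp (hT.symm ▸ ha : a ∈ T).2
      apply hab
      intro a ha b hb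
      by_contra hne
      have h1 := commutator_mem_of_card hO27 hpO hp.2.1 hpZ hab ha hb
      have h2 := commutator_mem_of_card hO27 hxO hx.2.1 hxc hab ha hb
      rcases mem_zpowers_three hx.1 h2 with e | e | e
      · exact hne (by rwa [mul_inv_eq_one, mul_inv_eq_iff_eq_mul] at e)
      · exact hxp (e ▸ h1)
      · exact hxp (inv_inv x ▸ inv_mem (e ▸ h1))
    obtain ⟨b, hb, hbp⟩ : ∃ b, d.S2 b ∧ Commute b p := by
      obtain ⟨w2, hw2t, hw2v, hw2⟩ := d.S1_conj (d.S0_z hx) hp
      have hpp : ∃ p0, d.S1 p0 ∧ Commute p0 x := ⟨p, hp, hpx⟩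
      obtain ⟨p0, hp0, hp0x⟩ := hpp
      refine ⟨w2 * (d.z * p0 * d.z⁻¹) * w2⁻¹, ?_, ?_⟩
      · have := Slot.conj (d.S1_z hp0) w2
        rwa [hw2t.eq, mul_inv_cancel_right, (hw2t.mul_right hw2v).eq, mul_inv_cancel_right] at this
      · rw [← hw2]
        exact (hp0x.map (MulAut.conj d.z)).map (MulAut.conj w2)
    have hbOp : b ∈ Op := (hOpmem b).mpr ⟨hbp, odd_orderOf_three hb.1⟩
    have hbx : ¬Commute b x := by
      intro hc
      rcases huq q b hq hqx hb hc with e | e
      · exact hqp (e ▸ hbp)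
      · exact hqp (Commute.inv_left_iff.mp (e ▸ hbp))
    -- the two transvections of `⟨x, p⟩`
    have h1 := commutator_mem_of_card hO27 hxO hx.2.1 hxc hab hqO hpO
    have h2 := commutator_mem_of_card hOp27 hpOp hp.2.1 hpc hOpnc hbOp hxOp
    have hA : ∃ a, a * x * a⁻¹ = x ∧ a * p * a⁻¹ = p * x := by
      have hqx' : q * x * q⁻¹ = x := by rw [hqx.eq, mul_inv_cancel_right]
      have hqx'' : q⁻¹ * x * q = x := by rw [mul_assoc, ← hqx.eq, inv_mul_cancel_left]
      rcases mem_zpowers_three hx.1 h1 with e | e | e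
      · exact absurd (show Commute q p by
          rwa [mul_inv_eq_one, mul_inv_eq_iff_eq_mul] at e) hqp
      · exact ⟨q, hqx', by rw [hpx.eq, ← mul_inv_eq_iff_eq_mul, e]⟩
      · refine ⟨q⁻¹, by rwa [inv_inv], ?_⟩
        have e1 : q * p * q⁻¹ = x⁻¹ * p := mul_inv_eq_iff_eq_mul.mp e
        rw [inv_inv]
        calc q⁻¹ * p * q = q⁻¹ * (x * (x⁻¹ * p)) * q := by rw [mul_inv_cancel_left]
          _ = q⁻¹ * (x * (q * p * q⁻¹)) * q := by rw [e1]
          _ = (q⁻¹ * x * q) * p := by group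
          _ = p * x := by rw [hqx'', hpx.eq]
    have hB : ∃ a, a * p * a⁻¹ = p ∧ a * x * a⁻¹ = x * p⁻¹ := by
      have hbp' : b * p * b⁻¹ = p := by rw [hbp.eq, mul_inv_cancel_right]
      have hbp'' : b⁻¹ * p * b = p := by rw [mul_assoc, ← hbp.eq, inv_mul_cancel_left]
      rcases mem_zpowers_three hp.1 h2 with e | e | e
      · exact absurd (show Commute b x by
          rwa [mul_inv_eq_one, mul_inv_eq_iff_eq_mul] at e) hbx
      · refine ⟨b⁻¹, by rwa [inv_inv], ?_⟩
        have e1 : b * x * b⁻¹ = p * x := mul_inv_eq_iff_eq_mul.mp e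
        rw [inv_inv]
        calc b⁻¹ * x * b = b⁻¹ * (p⁻¹ * (p * x)) * b := by rw [inv_mul_cancel_left]
          _ = b⁻¹ * (p⁻¹ * (b * x * b⁻¹)) * b := by rw [e1]
          _ = (b⁻¹ * p * b)⁻¹ * x := by group
          _ = x * p⁻¹ := by rw [hbp'', hpx.inv_left.eq]
      · exact ⟨b, hbp', by rw [hpx.symm.inv_right.eq, ← mul_inv_eq_iff_eq_mul, e]⟩
    obtain ⟨a, hax, hap⟩ := hA
    obtain ⟨a', ha'p, ha'x⟩ := hB
    set u := a * a' * a with hu
    have hux : u * x * u⁻¹ = p⁻¹ := by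
      calc u * x * u⁻¹ = a * (a' * (a * x * a⁻¹) * a'⁻¹) * a⁻¹ := by rw [hu]; group
        _ = a * (x * p⁻¹) * a⁻¹ := by rw [hax, ha'x]
        _ = (a * x * a⁻¹) * (a * p * a⁻¹)⁻¹ := by group
        _ = p⁻¹ := by rw [hax, hap, mul_inv_rev, mul_inv_cancel_left]
    have hup : u * p * u⁻¹ = x := by
      calc u * p * u⁻¹ = a * (a' * (a * p * a⁻¹) * a'⁻¹) * a⁻¹ := by rw [hu]; group
        _ = a * ((a' * p * a'⁻¹) * (a' * x * a'⁻¹)) * a⁻¹ := by rw [hap]; group
        _ = a * (p * (x * p⁻¹)) * a⁻¹ := by rw [ha'p, ha'x]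
        _ = x := by rw [← mul_assoc p, hpx.eq, mul_inv_cancel_right, hax]
    have hu2 : u ^ 2 * x * (u ^ 2)⁻¹ = x⁻¹ := by
      calc u ^ 2 * x * (u ^ 2)⁻¹ = u * (u * x * u⁻¹) * u⁻¹ := by
            simp [pow_succ, mul_assoc]
        _ = (u * p * u⁻¹)⁻¹ := by rw [hux]; group
        _ = x⁻¹ := by rw [hup]
    have hu2' : u ^ 2 * x⁻¹ * (u ^ 2)⁻¹ = x := by
      have := congrArg Inv.inv hu2
      simpa [mul_assoc] using this
    have hu4 : Commute (u ^ 4) x := by
      refine mul_inv_eq_iff_eq_mul.mp ?_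
      calc u ^ 4 * x * (u ^ 4)⁻¹ = u ^ 2 * (u ^ 2 * x * (u ^ 2)⁻¹) * (u ^ 2)⁻¹ := by
            simp [pow_succ, mul_assoc]
        _ = x := by rw [hu2, hu2']
    have hxinv : x ≠ x⁻¹ := fun h => hx.2.1 (by
      have h2 : x * x = 1 := by nth_rw 1 [h]; exact inv_mul_cancel x
      have h3 := hx.1
      rwa [pow_succ, sq, h2, one_mul] at h3)
    have h4 : 4 ∣ orderOf u := by
      rcases (by omega : orderOf u % 4 = 0 ∨ orderOf u % 4 = 1 ∨ orderOf u % 4 = 2 ∨
          orderOf u % 4 = 3) with h | h | h | h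
      · exact Nat.dvd_of_mod_eq_zero h
      all_goals exfalso
      all_goals have hn := pow_orderOf_eq_one u
      all_goals rw [← Nat.mod_add_div (orderOf u) 4, pow_add, pow_mul, h] at hn
      all_goals have hc := hu4.pow_left (orderOf u / 4)
      all_goals rw [eq_inv_of_mul_eq_one_right hn] at hc
      all_goals have hc' := Commute.inv_left_iff.mp hc
      · rw [pow_one] at hc'
        apply hxp
        rw [← inv_inv p, show p⁻¹ = x by rw [← hux, hc'.eq, mul_inv_cancel_right], zpowers_inv]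
        exact mem_zpowers x
      · rw [hc'.eq, mul_inv_cancel_right] at hu2
        exact hxinv hu2
      · apply hxp
        have h3 : u ^ 3 * x * (u ^ 3)⁻¹ = p := by
          calc u ^ 3 * x * (u ^ 3)⁻¹ = u * (u ^ 2 * x * (u ^ 2)⁻¹) * u⁻¹ := by
                simp [pow_succ, mul_assoc]
            _ = (u * x * u⁻¹)⁻¹ := by rw [hu2]; group
            _ = p := by rw [hux, inv_inv]
        rw [hc'.eq, mul_inv_cancel_right] at h3
        exact h3 ▸ mem_zpowers x
    obtain ⟨k, hk⟩ := h4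
    have hk4 : (u ^ k) ^ 4 = 1 := by rw [← pow_mul, mul_comm, ← hk, pow_orderOf_eq_one]
    have hk2 : u ^ (2 * k) = 1 := by
      rw [mul_comm, pow_mul, sq]
      exact d.no_four _ hk4
    have hle := Nat.le_of_dvd (by have := orderOf_pos u; omega) (orderOf_dvd_of_pow_eq_one hk2)
    have := orderOf_pos u
    omega

end Data

end CfsgLib.JankoOne
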