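import Mathlib
import Cfsg.Agent.Lib.JankoOne.Section
import Cfsg.Agent.Lib.JankoOne.Support

/-!
# The integral table of multiplicities
-/

set_option autoImplicit false

open Subgroup CfsgLib.Char

namespace CfsgLib.JankoOne

/-- Integral data of the non-trivial irreducible characters on the section of the involution:
`deg` is the degree, `val` the value at the involution, and `A`, `B`, `D`, `X` are the
multiplicities. -/
structure Table (ι : Type*) (g : ℕ) where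
  /-- the index set -/
  J : Finset ι
  /-- degree -/
  deg : ι → ℤ
  /-- first multiplicity -/
  A : ι → ℤ
  /-- second multiplicity -/
  B : ι → ℤ
  /-- third multiplicity -/
  D : ι → ℤ
  /-- fourth multiplicity -/
  X : ι → ℤ
  deg_pos : ∀ i ∈ J, 0 < deg i
  deg_dvd : ∀ i ∈ J, deg i ∣ (g : ℤ)
  deg_congr : ∀ i ∈ J, 8 ∣ deg i - (3 * A i + 3 * B i - 5 * D i + 4 * X i)
  lt_deg : ∀ i ∈ J, |3 * A i + 3 * B i - 5 * D i + 4 * X i| < deg i
  sum_sq : ∀ s ⊆ J, 1 + ∑ i ∈ s, deg i * deg i ≤ (g : ℤ)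
  AA : ∑ i ∈ J, A i * A i = 3
  BB : ∑ i ∈ J, B i * B i = 3
  DD : ∑ i ∈ J, D i * D i = 3
  XX : ∑ i ∈ J, X i * X i = 2
  AB : ∑ i ∈ J, A i * B i = 1
  AD : ∑ i ∈ J, A i * D i = 1
  BD : ∑ i ∈ J, B i * D i = 1
  AX : ∑ i ∈ J, A i * X i = 0
  BX : ∑ i ∈ J, B i * X i = 0
  DX : ∑ i ∈ J, D i * X i = 0
  An : ∑ i ∈ J, A i * deg i = -1
  Bn : ∑ i ∈ J, B i * deg i = -1
  Dn : ∑ i ∈ J, D i * deg i = -1
  Xn : ∑ i ∈ J, X i * deg i = 0
  structA : (g : ℚ) * (1 + ∑ i ∈ J, (A i : ℚ) *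
    (((3 * A i + 3 * B i - 5 * D i + 4 * X i : ℤ) : ℚ) ^ 2 / (deg i : ℚ))) = 144000
  structD : (g : ℚ) * (1 + ∑ i ∈ J, (D i : ℚ) *
    (((3 * A i + 3 * B i - 5 * D i + 4 * X i : ℤ) : ℚ) ^ 2 / (deg i : ℚ))) = 86400
  structX : ∑ i ∈ J, (X i : ℚ) *
    (((3 * A i + 3 * B i - 5 * D i + 4 * X i : ℤ) : ℚ) ^ 2 / (deg i : ℚ)) = 0

namespace Data

theorem int_sum_mul {G : Type*} [Group G] [Fintype G] (d : Data G) (j : Cfsg.IrrCharacter G)
    [DecidableEq (Cfsg.IrrCharacter G)] (U V : Cfsg.IrrCharacter G → ℤ)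
    (a1 a2 a3 a4 b1 b2 b3 b4 : ℂ)
    (hU : ∀ χ, (U χ : ℂ) = a1 * χ.1 d.t + a2 * χ.1 d.gx + a3 * χ.1 d.gy + a4 * χ.1 d.gy2)
    (hV : ∀ χ, (V χ : ℂ) = b1 * χ.1 d.t + b2 * χ.1 d.gx + b3 * χ.1 d.gy + b4 * χ.1 d.gy2)
    (r : ℤ) (hr : 120 * (a1 * b1) + 6 * (a2 * b2) + 10 * (a3 * b3) + 10 * (a4 * b4) = (r : ℂ)) :
    ∑ χ ∈ Finset.univ.erase j, U χ * V χ = r - U j * V j := by
  have h : ((∑ χ, U χ * V χ : ℤ) : ℂ) = (r : ℂ) := by
    push_cast
    simp only [hU, hV]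
    rw [d.gram, hr]
  rw [← Finset.sum_erase_add Finset.univ _ (Finset.mem_univ j)] at h
  have h' : (∑ χ ∈ Finset.univ.erase j, U χ * V χ) + U j * V j = r := by exact_mod_cast h
  omega

/-- The table of a group with these data. -/
theorem exists_table.{u} {G : Type u} [Group G] [Fintype G] [IsSimpleGroup G] (d : Data G) :
    ∃ (ι : Type u) (_ : DecidableEq ι), Nonempty (Table ι (Nat.card G)) := by
  classical
  obtain ⟨c, c', A, B, D, X, hcc, hcp, hA, hB, hD, hX⟩ := d.exists_mult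
  choose n hn0 hn using fun χ : Cfsg.IrrCharacter G => exists_degree_pos χ.2
  let τ : Cfsg.IrrCharacter G → ℤ := fun χ => 3 * A χ + 3 * B χ - 5 * D χ + 4 * X χ
  have hτ : ∀ χ, (τ χ : ℂ) = χ.1 d.t := fun χ => by
    simp only [τ]
    push_cast
    rw [hA, hB, hD, hX]
    linear_combination (3 / 5 : ℂ) * (χ.1 d.gy + χ.1 d.gy2) * hcc
  let o : Cfsg.IrrCharacter G := irrOne
  have ho : ∀ g, o.1 g = 1 := fun g => irrOne_apply g
  have oA : A o = 1 := by
    have h := hA o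
    simp only [ho, mul_one] at h
    have : (A o : ℂ) = 1 := by rw [h]; linear_combination (1 / 5 : ℂ) * hcc
    exact_mod_cast this
  have oB : B o = 1 := by
    have h := hB o
    simp only [ho, mul_one] at h
    have : (B o : ℂ) = 1 := by rw [h]; linear_combination (1 / 5 : ℂ) * hcc
    exact_mod_cast this
  have oD : D o = 1 := by
    have h := hD o
    simp only [ho, mul_one] at h
    have : (D o : ℂ) = 1 := by rw [h]; norm_num
    exact_mod_cast this
  have oX : X o = 0 := by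
    have h := hX o
    simp only [ho, mul_one] at h
    have : (X o : ℂ) = 0 := by rw [h]; norm_num
    exact_mod_cast this
  have on : n o = 1 := by
    have := hn o
    rw [ho] at this
    exact_mod_cast this.symm
  let J := Finset.univ.erase o
  have hdeg : ∀ (U : Cfsg.IrrCharacter G → ℤ) (a1 a2 a3 a4 : ℂ),
      (∀ χ, (U χ : ℂ) = a1 * χ.1 d.t + a2 * χ.1 d.gx + a3 * χ.1 d.gy + a4 * χ.1 d.gy2) →
      ∑ χ ∈ J, U χ * (n χ : ℤ) = -(U o) := by
    intro U a1 a2 a3 a4 hU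
    have h : ((∑ χ, U χ * (n χ : ℤ) : ℤ) : ℂ) = 0 := by
      push_cast
      rw [← d.sum_degree a1 a2 a3 a4]
      exact Finset.sum_congr rfl fun χ _ => by rw [hU, hn, mul_comm]
    rw [← Finset.sum_erase_add Finset.univ _ (Finset.mem_univ o)] at h
    have h' : (∑ χ ∈ J, U χ * (n χ : ℤ)) + U o * (n o : ℤ) = 0 := by exact_mod_cast h
    rw [on] at h'
    push_cast at h'
    omega
  have hstruct : ∀ (U : Cfsg.IrrCharacter G → ℤ) (a1 a2 a3 a4 : ℂ),
      (∀ χ, (U χ : ℂ) = a1 * χ.1 d.t + a2 * χ.1 d.gx + a3 * χ.1 d.gy + a4 * χ.1 d.gy2) →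
      ∀ K : ℚ, 14400 * (30 * a1 + 6 * a2 + 10 * a3 + 10 * a4) = (K : ℂ) →
      (Nat.card G : ℚ) * ((U o : ℚ) + ∑ χ ∈ J, (U χ : ℚ) * ((τ χ : ℚ) ^ 2 / ((n χ : ℤ) : ℚ))) =
        K := by
    intro U a1 a2 a3 a4 hU K hK
    have h : (((Nat.card G : ℚ) * ∑ χ, (U χ : ℚ) * ((τ χ : ℚ) ^ 2 / ((n χ : ℤ) : ℚ)) : ℚ) : ℂ) =
        (K : ℂ) := by
      rw [← hK, ← d.struct_comb a1 a2 a3 a4]
      push_cast
      refine congrArg ((Nat.card G : ℂ) * ·) (Finset.sum_congr rfl fun χ _ => ?_)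
      rw [← hU, hτ, hn]
      ring
    rw [← Finset.sum_erase_add Finset.univ _ (Finset.mem_univ o)] at h
    have h' := (Rat.cast_injective h : _ = K)
    have hτo : τ o = 1 := by
      have := hτ o
      rw [ho] at this
      exact_mod_cast this
    rw [hτo, on] at h'
    push_cast at h' ⊢
    linear_combination h'
  refine ⟨_, inferInstance, ⟨
    { J := J, deg := fun χ => n χ, A := A, B := B, D := D, X := X
      deg_pos := fun χ _ => by exact_mod_cast hn0 χ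
      deg_dvd := fun χ _ => Int.natCast_dvd_natCast.mpr (degree_dvd_card χ.2 (hn χ))
      deg_congr := fun χ _ => ?_
      lt_deg := fun χ hχ => ?_
      sum_sq := fun s hs => ?_
      AA := ?_, BB := ?_, DD := ?_, XX := ?_, AB := ?_, AD := ?_, BD := ?_, AX := ?_, BX := ?_
      DX := ?_, An := ?_, Bn := ?_, Dn := ?_, Xn := ?_
      structA := ?_, structD := ?_, structX := ?_ }⟩⟩
  · obtain ⟨k, hk⟩ := d.congr_eight (isCharacter_of_isIrr χ.2)
    rw [hn, ← hτ] at hk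
    have : (n χ : ℤ) + 7 * τ χ = 8 * (k : ℤ) := by exact_mod_cast hk
    refine ⟨(k : ℤ) - τ χ, ?_⟩
    simp only [τ] at this ⊢
    omega
  · have h := d.norm_lt (Finset.mem_erase.mp hχ).1 (hn χ)
    rw [← hτ, Complex.norm_intCast] at h
    exact_mod_cast h
  · have h := sum_degree_sq (G := G)
    simp only [hn] at h
    have h' : ∑ χ : Cfsg.IrrCharacter G, (n χ : ℤ) * (n χ : ℤ) = (Nat.card G : ℤ) := by
      simp only [sq] at h
      exact_mod_cast h
    rw [← h', ← Finset.add_sum_erase _ _ (Finset.mem_univ o), on]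
    push_cast
    exact add_le_add (by norm_num) (Finset.sum_le_sum_of_subset_of_nonneg hs
      fun χ _ _ => mul_self_nonneg _)
  · rw [d.int_sum_mul o A A _ _ _ _ _ _ _ _ hA hA 4
      (by linear_combination (2 / 5 : ℂ) * (c + c' + 3) * hcc - (4 / 5 : ℂ) * hcp), oA]
    norm_num
  · rw [d.int_sum_mul o B B _ _ _ _ _ _ _ _ hB hB 4
      (by linear_combination (2 / 5 : ℂ) * (c + c' + 3) * hcc - (4 / 5 : ℂ) * hcp), oB]
    norm_num
  · rw [d.int_sum_mul o D D _ _ _ _ _ _ _ _ hD hD 4 (by norm_num), oD]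
    norm_num
  · rw [d.int_sum_mul o X X _ _ _ _ _ _ _ _ hX hX 2 (by norm_num), oX]
    norm_num
  · rw [d.int_sum_mul o A B _ _ _ _ _ _ _ _ hA hB 2
      (by linear_combination (8 / 5 : ℂ) * hcc + (4 / 5 : ℂ) * hcp), oA, oB]
    norm_num
  · rw [d.int_sum_mul o A D _ _ _ _ _ _ _ _ hA hD 2
      (by linear_combination (2 / 5 : ℂ) * hcc), oA, oD]
    norm_num
  · rw [d.int_sum_mul o B D _ _ _ _ _ _ _ _ hB hD 2
      (by linear_combination (2 / 5 : ℂ) * hcc), oB, oD]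
    norm_num
  · rw [d.int_sum_mul o A X _ _ _ _ _ _ _ _ hA hX 0
      (by linear_combination (-2 / 5 : ℂ) * hcc), oA, oX]
    norm_num
  · rw [d.int_sum_mul o B X _ _ _ _ _ _ _ _ hB hX 0
      (by linear_combination (-2 / 5 : ℂ) * hcc), oB, oX]
    norm_num
  · rw [d.int_sum_mul o D X _ _ _ _ _ _ _ _ hD hX 0 (by norm_num), oD, oX]
    norm_num
  · rw [hdeg A _ _ _ _ hA, oA]
  · rw [hdeg B _ _ _ _ hB, oB]
  · rw [hdeg D _ _ _ _ hD, oD]
  · rw [hdeg X _ _ _ _ hX, oX, neg_zero]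
  · have := hstruct A _ _ _ _ hA 144000 (by push_cast; linear_combination (28800 : ℂ) * hcc)
    rw [oA, Int.cast_one] at this
    exact this
  · have := hstruct D _ _ _ _ hD 86400 (by norm_num)
    rw [oD, Int.cast_one] at this
    exact this
  · have := hstruct X _ _ _ _ hX 0 (by norm_num)
    rw [oX, Int.cast_zero, zero_add, mul_eq_zero] at this
    exact this.resolve_left (by exact_mod_cast Nat.card_pos.ne')

end Data

end CfsgLib.JankoOne
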