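import Mathlib
import Cfsg.Agent.Lib.JankoOne.Table
import Cfsg.Agent.Lib.JankoOne.Arith
import Cfsg.Agent.Lib.JankoOne.Local

/-!
# The order of a simple group with an involution centraliser of type `2 × A₅`
-/

set_option autoImplicit false

namespace CfsgLib.JankoOne

theorem sign_mul_sq_div {a τ n : ℤ} (ha : a = 1 ∨ a = -1) :
    (a : ℚ) * ((τ : ℚ) ^ 2 / (n : ℚ)) = (((a * τ) * (a * τ) : ℤ) : ℚ) / ((a * n : ℤ) : ℚ) := by
  rcases ha with rfl | rfl
  · push_cast; ring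
  · push_cast
    rw [show (-1 : ℚ) * (n : ℚ) = -(n : ℚ) by ring, div_neg]
    ring

namespace Table

variable {ι : Type*} [DecidableEq ι] {g : ℕ} (T : Table ι g)

/-- The value at the involution. -/
abbrev val (i : ι) : ℤ := 3 * T.A i + 3 * T.B i - 5 * T.D i + 4 * T.X i

theorem X_zero {i : ι} (hi : i ∈ T.J) (h : T.A i ≠ 0 ∨ T.B i ≠ 0 ∨ T.D i ≠ 0) : T.X i = 0 := by
  by_contra hX
  obtain ⟨p, hp, q, hq, hpq, hXp, hXq, hsupp, hsum⟩ := sum_pair_support T.XX
  obtain ⟨k, -, -, -, huniq⟩ := common T.AA T.BB T.AB T.deg_pos (by rw [T.An, T.Bn])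
  have hn := hsum fun l => (T.deg l : ℚ)
  have hA := hsum fun l => (T.A l : ℚ)
  have hB := hsum fun l => (T.B l : ℚ)
  have hD := hsum fun l => (T.D l : ℚ)
  have e0 : (∑ l ∈ T.J, (T.X l : ℚ) * (T.deg l : ℚ)) = 0 := by exact_mod_cast T.Xn
  have eA : (∑ l ∈ T.J, (T.X l : ℚ) * (T.A l : ℚ)) = 0 := by
    simp only [mul_comm (T.X _ : ℚ)]; exact_mod_cast T.AX
  have eB : (∑ l ∈ T.J, (T.X l : ℚ) * (T.B l : ℚ)) = 0 := by
    simp only [mul_comm (T.X _ : ℚ)]; exact_mod_cast T.BX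
  have eD : (∑ l ∈ T.J, (T.X l : ℚ) * (T.D l : ℚ)) = 0 := by
    simp only [mul_comm (T.X _ : ℚ)]; exact_mod_cast T.DX
  rw [e0] at hn; rw [eA] at hA; rw [eB] at hB; rw [eD] at hD
  have hn' : T.X p * T.deg p + T.X q * T.deg q = 0 := by exact_mod_cast hn.symm
  have hA' : T.X p * T.A p + T.X q * T.A q = 0 := by exact_mod_cast hA.symm
  have hB' : T.X p * T.B p + T.X q * T.B q = 0 := by exact_mod_cast hB.symm
  have hD' : T.X p * T.D p + T.X q * T.D q = 0 := by exact_mod_cast hD.symm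
  have hnp := T.deg_pos p hp
  have hnq := T.deg_pos q hq
  have bp := abs_le_one_of_sum_sq (by norm_num) T.XX hp
  have bq := abs_le_one_of_sum_sq (by norm_num) T.XX hq
  have hs : (T.X p = 1 ∧ T.X q = -1) ∨ (T.X p = -1 ∧ T.X q = 1) := by
    rcases bp with e | e | e <;> rcases bq with e' | e' | e' <;> simp [e, e'] at hn' hXp hXq ⊢
    all_goals omega
  have heq : T.deg p = T.deg q ∧ T.A p = T.A q ∧ T.B p = T.B q ∧ T.D p = T.D q := by
    rcases hs with ⟨e, e'⟩ | ⟨e, e'⟩ <;> rw [e, e'] at hn' hA' hB' hD' <;> omega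
  obtain ⟨h0, h1, h2, h3⟩ := heq
  have hS : 3 * T.A p + 3 * T.B p - 5 * T.D p = 0 := by
    have h := hsum fun l => ((T.val l : ℤ) : ℚ) ^ 2 / (T.deg l : ℚ)
    rw [T.structX] at h
    have hn0 : (T.deg p : ℚ) ≠ 0 := by exact_mod_cast hnp.ne'
    simp only [Table.val] at h
    rcases hs with ⟨e, e'⟩ | ⟨e, e'⟩ <;> rw [e, e', ← h0, ← h1, ← h2, ← h3] at h <;>
      push_cast at h <;> field_simp at h <;> ring_nf at h <;>
      (have : (3 * (T.A p : ℚ) + 3 * T.B p - 5 * T.D p) = 0 := by linarith) <;>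
      exact_mod_cast this
  have ba := abs_le_one_of_sum_sq le_rfl T.AA hp
  have bb := abs_le_one_of_sum_sq le_rfl T.BB hp
  have bd := abs_le_one_of_sum_sq le_rfl T.DD hp
  have hzero : T.A p = 0 ∧ T.B p = 0 ∧ T.D p = 0 := by
    by_contra hne
    have hab : T.A p ≠ 0 ∧ T.B p ≠ 0 := by omega
    exact hpq ((huniq p hp hab.1 hab.2).trans (huniq q hq (h1 ▸ hab.1) (h2 ▸ hab.2)).symm)
  rcases hsupp i hi hX with rfl | rfl <;> omega

theorem dvd_signed {i : ι} (hi : i ∈ T.J) {a : ℤ} (ha : a = 1 ∨ a = -1) :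
    a * T.deg i ∣ (g : ℤ) := by
  rcases ha with rfl | rfl
  · rw [one_mul]; exact T.deg_dvd i hi
  · rw [neg_one_mul]; exact neg_dvd.mpr (T.deg_dvd i hi)

/-- The facts on one signed degree. -/
theorem signed {i : ι} (hi : i ∈ T.J) {a : ℤ} (ha : a = 1 ∨ a = -1) {w : ℤ} (hw : a * T.val i = w) :
    (a * T.deg i - w) % 8 = 0 ∧ w * w < (a * T.deg i) * (a * T.deg i) ∧
      a * T.deg i ∣ (g : ℤ) ∧ a * T.deg i ≠ 0 ∧
      (a * T.deg i) * (a * T.deg i) = T.deg i * T.deg i ∧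
      (a : ℚ) * ((T.val i : ℚ) ^ 2 / (T.deg i : ℚ)) = ((w * w : ℤ) : ℚ) / ((a * T.deg i : ℤ) : ℚ) := by
  have h1 := T.deg_congr i hi
  have h2 := T.lt_deg i hi
  have h3 := T.deg_pos i hi
  refine ⟨?_, ?_, T.dvd_signed hi ha, ?_, ?_, ?_⟩
  · obtain ⟨k, hk⟩ := h1
    rw [← hw]
    simp only [Table.val]
    rcases ha with rfl | rfl <;> omega
  · have h4 := abs_lt.mp h2
    subst hw
    simp only [Table.val]
    rcases ha with rfl | rfl <;> nlinarith [h4.1, h4.2]
  · rcases ha with rfl | rfl <;> omega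
  · rcases ha with rfl | rfl <;> ring
  · rw [sign_mul_sq_div ha, hw]

set_option maxHeartbeats 1200000 in
/-- The order, from the table. -/
theorem order_eq {m : ℕ} (T : Table ι (120 * m)) (hodd : m % 2 = 1) (h3 : 3 ∣ m → 27 ∣ m) :
    120 * m = 175560 := by
  obtain ⟨k, hk, hkA, hkB, uAB⟩ := common T.AA T.BB T.AB T.deg_pos (by rw [T.An, T.Bn])
  obtain ⟨l, hl, hlA, hlD, uAD⟩ := common T.AA T.DD T.AD T.deg_pos (by rw [T.An, T.Dn])
  obtain ⟨r, hr, hrB, hrD, uBD⟩ := common T.BB T.DD T.BD T.deg_pos (by rw [T.Bn, T.Dn])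
  have bA := fun i (hi : i ∈ T.J) => abs_le_one_of_sum_sq le_rfl T.AA hi
  have bD := fun i (hi : i ∈ T.J) => abs_le_one_of_sum_sq le_rfl T.DD hi
  by_cases hkl : k = l
  · -- one character in the three supports
    subst hkl
    have hkr : k = r := uBD k hk (hkB ▸ hkA) (hlD ▸ hkA)
    obtain ⟨i, hi, j, hj, hki, hkj, hij, hiA, hjA, -, sumA⟩ := triple_support T.AA hk hkA
    obtain ⟨e, he, f, hf, hke, hkf, hef, heD, hfD, -, sumD⟩ :=
      triple_support T.DD hk (hlD ▸ hkA)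
    have sa := (bA k hk).resolve_left hkA
    have si := (bA i hi).resolve_left hiA
    have sj := (bA j hj).resolve_left hjA
    have se := (bD e he).resolve_left heD
    have sf := (bD f hf).resolve_left hfD
    have zA : ∀ u ∈ T.J, u ≠ k → T.A u ≠ 0 → T.B u = 0 ∧ T.D u = 0 ∧ T.X u = 0 :=
      fun u hu hne hA => ⟨by_contra fun h => hne (uAB u hu hA h),
        by_contra fun h => hne (uAD u hu hA h), T.X_zero hu (Or.inl hA)⟩
    have zD : ∀ u ∈ T.J, u ≠ k → T.D u ≠ 0 → T.A u = 0 ∧ T.B u = 0 ∧ T.X u = 0 :=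
      fun u hu hne hD => ⟨by_contra fun h => hne (uAD u hu h hD),
        by_contra fun h => hne ((uBD u hu h hD).trans hkr.symm), T.X_zero hu (Or.inr (Or.inr hD))⟩
    have vk : T.A k * T.val k = 1 := by
      simp only [Table.val, T.X_zero hk (Or.inl hkA), hkB, hlD]
      rcases sa with h | h <;> rw [h] <;> norm_num
    have vA : ∀ u ∈ T.J, u ≠ k → T.A u ≠ 0 → T.A u * T.val u = 3 := by
      intro u hu hne hA
      obtain ⟨z1, z2, z3⟩ := zA u hu hne hA
      simp only [Table.val, z1, z2, z3]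
      rcases (bA u hu).resolve_left hA with h | h <;> rw [h] <;> norm_num
    have vD : ∀ u ∈ T.J, u ≠ k → T.D u ≠ 0 → T.D u * T.val u = -5 := by
      intro u hu hne hD
      obtain ⟨z1, z2, z3⟩ := zD u hu hne hD
      simp only [Table.val, z1, z2, z3]
      rcases (bD u hu).resolve_left hD with h | h <;> rw [h] <;> norm_num
    obtain ⟨k1, k2, k3, k4, k5, k6⟩ := T.signed hk sa vk
    obtain ⟨i1, i2, i3, i4, i5, i6⟩ := T.signed hi si (vA i hi hki.symm hiA)
    obtain ⟨j1, j2, j3, j4, j5, j6⟩ := T.signed hj sj (vA j hj hkj.symm hjA)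
    obtain ⟨e1, e2, e3, e4, e5, e6⟩ := T.signed he se (vD e he hke.symm heD)
    obtain ⟨f1, f2, f3, f4, f5, f6⟩ := T.signed hf sf (vD f hf hkf.symm hfD)
    have hA1 := sumA fun u => (T.deg u : ℚ)
    rw [show (∑ u ∈ T.J, (T.A u : ℚ) * (T.deg u : ℚ)) = -1 by exact_mod_cast T.An] at hA1
    have hs : T.A k * T.deg k + T.A i * T.deg i + T.A j * T.deg j = -1 := by
      exact_mod_cast hA1.symm
    have hD1 := sumD fun u => (T.deg u : ℚ)
    rw [show (∑ u ∈ T.J, (T.D u : ℚ) * (T.deg u : ℚ)) = -1 by exact_mod_cast T.Dn] at hD1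
    have hse : T.A k * T.deg k + T.D e * T.deg e + T.D f * T.deg f = -1 := by
      rw [← hlD]; exact_mod_cast hD1.symm
    have q1 := T.sum_sq {k, i, j} (by simp [Finset.insert_subset_iff, hk, hi, hj])
    rw [Finset.sum_insert (by simp [hki, hkj]), Finset.sum_pair hij, ← k5, ← i5, ← j5] at q1
    have q2 := T.sum_sq {e, f} (by simp [Finset.insert_subset_iff, he, hf])
    rw [Finset.sum_pair hef, ← e5, ← f5] at q2
    have hA2 := T.structA
    rw [sumA fun u => ((T.val u : ℤ) : ℚ) ^ 2 / (T.deg u : ℚ), k6, i6, j6] at hA2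
    have hD2 := T.structD
    rw [sumD fun u => ((T.val u : ℤ) : ℚ) ^ 2 / (T.deg u : ℚ), e6, f6, hlD, k6] at hD2
    refine order_one hodd h3 k1 i1 j1 k2 i2 j2 hs (by linarith) k3 i3 j3 ?_ (e1 := T.D e * T.deg e)
      (e2 := T.D f * T.deg f) (by omega) (by nlinarith) (by nlinarith) e4 f4 e3 f3 hse ?_
    · push_cast at hA2 ⊢; norm_num at hA2 ⊢; linear_combination hA2
    · push_cast at hD2 ⊢; norm_num at hD2 ⊢; linear_combination hD2
  · -- three different characters
    have hkr : k ≠ r := fun h => hkl (uAD k hk hkA (by subst h; rw [hrD]; exact hrB))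
    have hlr : l ≠ r := fun h => hkl (uAB l hl hlA (by subst h; exact hrB)).symm
    obtain ⟨i, hi, j, hj, hki, hkj, hij, hiA, hjA, suppA, sumA⟩ := triple_support T.AA hk hkA
    -- name the members so that `l` comes second
    obtain ⟨c, hc, hcA, hkc, hlc, sumA'⟩ : ∃ c ∈ T.J, T.A c ≠ 0 ∧ k ≠ c ∧ l ≠ c ∧
        ∀ φ : ι → ℚ, ∑ u ∈ T.J, (T.A u : ℚ) * φ u = T.A k * φ k + T.A l * φ l + T.A c * φ c := by
      rcases suppA l hl hlA with h | h | h
      · exact absurd h.symm hkl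
      · subst h
        exact ⟨j, hj, hjA, hkj, hij, sumA⟩
      · subst h
        exact ⟨i, hi, hiA, hki, hij.symm, fun φ => by rw [sumA]; ring⟩
    obtain ⟨e, he, f, hf, hle, hlf, hef, heD, hfD, suppD, sumD⟩ :=
      triple_support T.DD hl (hlD ▸ hlA)
    obtain ⟨c', hc', hc'D, hlc', hrc', sumD'⟩ : ∃ c' ∈ T.J, T.D c' ≠ 0 ∧ l ≠ c' ∧ r ≠ c' ∧
        ∀ φ : ι → ℚ, ∑ u ∈ T.J, (T.D u : ℚ) * φ u = T.D l * φ l + T.D r * φ r + T.D c' * φ c' := by
      rcases suppD r hr (hrD ▸ hrB) with h | h | h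
      · exact absurd h.symm hlr
      · subst h
        exact ⟨f, hf, hfD, hlf, hef, sumD⟩
      · subst h
        exact ⟨e, he, heD, hle, hef.symm, fun φ => by rw [sumD]; ring⟩
    have sk := (bA k hk).resolve_left hkA
    have sl := (bA l hl).resolve_left hlA
    have sc := (bA c hc).resolve_left hcA
    have sr := (bD r hr).resolve_left (hrD ▸ hrB)
    have sc' := (bD c' hc').resolve_left hc'D
    have vk : T.A k * T.val k = 6 := by
      have z : T.D k = 0 := by_contra fun h => hkl (uAD k hk hkA h)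
      simp only [Table.val, T.X_zero hk (Or.inl hkA), hkB, z]
      rcases sk with h | h <;> rw [h] <;> norm_num
    have vl : T.A l * T.val l = -2 := by
      have z : T.B l = 0 := by_contra fun h => hkl (uAB l hl hlA h).symm
      simp only [Table.val, T.X_zero hl (Or.inl hlA), hlD, z]
      rcases sl with h | h <;> rw [h] <;> norm_num
    have vc : T.A c * T.val c = 3 := by
      have z1 : T.B c = 0 := by_contra fun h => hkc (uAB c hc hcA h).symm
      have z2 : T.D c = 0 := by_contra fun h => hlc (uAD c hc hcA h).symm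
      simp only [Table.val, T.X_zero hc (Or.inl hcA), z1, z2]
      rcases sc with h | h <;> rw [h] <;> norm_num
    have vr : T.D r * T.val r = -2 := by
      have z : T.A r = 0 := by_contra fun h => hlr (uAD r hr h (hrD ▸ hrB)).symm
      simp only [Table.val, T.X_zero hr (Or.inr (Or.inl hrB)), ← hrD, z]
      rcases sr with h | h <;> rw [h] <;> norm_num
    have vc' : T.D c' * T.val c' = -5 := by
      have z1 : T.A c' = 0 := by_contra fun h => hlc' (uAD c' hc' h hc'D).symm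
      have z2 : T.B c' = 0 := by_contra fun h => hrc' (uBD c' hc' h hc'D).symm
      simp only [Table.val, T.X_zero hc' (Or.inr (Or.inr hc'D)), z1, z2]
      rcases sc' with h | h <;> rw [h] <;> norm_num
    obtain ⟨k1, k2, k3, k4, k5, k6⟩ := T.signed hk sk vk
    obtain ⟨l1, l2, l3, l4, l5, l6⟩ := T.signed hl sl vl
    obtain ⟨c1, c2, c3, c4, c5, c6⟩ := T.signed hc sc vc
    obtain ⟨r1, r2, r3, r4, r5, r6⟩ := T.signed hr sr vr
    obtain ⟨d1, d2, d3, d4, d5, d6⟩ := T.signed hc' sc' vc'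
    have hA1 := sumA' fun u => (T.deg u : ℚ)
    rw [show (∑ u ∈ T.J, (T.A u : ℚ) * (T.deg u : ℚ)) = -1 by exact_mod_cast T.An] at hA1
    have hs : T.A k * T.deg k + T.A l * T.deg l + T.A c * T.deg c = -1 := by
      exact_mod_cast hA1.symm
    have hD1 := sumD' fun u => (T.deg u : ℚ)
    rw [show (∑ u ∈ T.J, (T.D u : ℚ) * (T.deg u : ℚ)) = -1 by exact_mod_cast T.Dn] at hD1
    have hse : T.A l * T.deg l + T.D r * T.deg r + T.D c' * T.deg c' = -1 := by
      rw [← hlD]; exact_mod_cast hD1.symm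
    have q1 := T.sum_sq {k, l, c} (by simp [Finset.insert_subset_iff, hk, hl, hc])
    rw [Finset.sum_insert (by simp [hkl, hkc]), Finset.sum_pair hlc, ← k5, ← l5, ← c5] at q1
    have q2 := T.sum_sq {r, c'} (by simp [Finset.insert_subset_iff, hr, hc'])
    rw [Finset.sum_pair hrc', ← r5, ← d5] at q2
    have hA2 := T.structA
    rw [sumA' fun u => ((T.val u : ℤ) : ℚ) ^ 2 / (T.deg u : ℚ), k6, l6, c6] at hA2
    have hD2 := T.structD
    rw [sumD' fun u => ((T.val u : ℤ) : ℚ) ^ 2 / (T.deg u : ℚ), r6, d6, hlD, l6] at hD2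
    refine order_three hodd h3 k1 (by omega) c1 k2 l2 c2 hs (by linarith) k3 l3 c3 ?_
      (e1 := T.D r * T.deg r) (e2 := T.D c' * T.deg c') (by omega) (by nlinarith) (by nlinarith)
      r4 d4 r3 d3 hse ?_
    · push_cast at hA2 ⊢; norm_num at hA2 ⊢; linear_combination hA2
    · push_cast at hD2 ⊢; norm_num at hD2 ⊢; linear_combination hD2

end Table

/-- **Janko's order theorem.** -/
theorem card_eq {G : Type*} [Group G] [Finite G] [IsSimpleGroup G] (d : Data G) :
    Nat.card G = 175560 := by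
  haveI := Fintype.ofFinite G
  obtain ⟨ι, _, ⟨T⟩⟩ := d.exists_table
  have h120 : 120 ∣ Nat.card G := d.card_centralizer_t ▸ Subgroup.card_subgroup_dvd_card _
  obtain ⟨m, hm⟩ := h120
  have h16 := d.not_sixteen
  have h81 : 9 ∣ Nat.card G → 81 ∣ Nat.card G := d.eightyone_dvd
  rw [hm] at T h16 h81 ⊢
  refine T.order_eq ?_ fun h => ?_
  · by_contra hne
    exact h16 (by omega)
  · have := h81 (by omega)
    omega

end CfsgLib.JankoOne
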